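import Cfsg.Agent.Lib.PSL2.AbelianInvol.Central
import Cfsg.Agent.Lib.PSL2.Sylow
import Cfsg.Agent.S1230

/-!
# Groups whose involution centralisers are abelian

`G ≅ SL(2, 2^n) × A` with `A` abelian of odd order, if a Sylow 2-subgroup is neither cyclic nor
normal.
-/

set_option autoImplicit false

namespace Cfsg.Agent.PSL2.AbInv

open Cfsg.Agent.Involution
open scoped MatrixGroups

variable {G : Type*} [Group G] [Finite G]

theorem Cfg.odd_card_D (c : Cfg G) : Odd (Nat.card c.D) := by
  rw [← Nat.not_even_iff_odd]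
  intro he
  obtain ⟨t, ht, ht2⟩ := Invol.exists_involution_mem he
  have h := (c.mem_D.1 ht).2
  rw [ht2] at h
  exact absurd h (by decide)

/-- A central element of `G'` of order prime to ... : if the Sylow `p`-subgroup is abelian it is `1`. -/
theorem eq_one_of_central_of_mem_commutator {p : ℕ} [Fact p.Prime] (P : Sylow p G)
    (hP : ∀ a ∈ (P : Subgroup G), ∀ b ∈ (P : Subgroup G), a * b = b * a) {e : G}
    (he : orderOf e = p) (hc : e ∈ Subgroup.center G) (hm : e ∈ commutator G) : False := by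
  haveI : IsMulCommutative (P : Subgroup G) := ⟨⟨fun a b => Subtype.ext (hP a a.2 b b.2)⟩⟩
  have hp : IsPGroup p (Subgroup.zpowers e) :=
    IsPGroup.of_card (n := 1) (by rw [Nat.card_zpowers, he, pow_one])
  have heP : e ∈ (P : Subgroup G) := by
    have hsup := P.2.to_sup_of_normal_left' hp (by
      rw [Subgroup.zpowers_le, Subgroup.mem_normalizer_iff]
      intro x
      rw [← Subgroup.mem_center_iff.1 hc x, mul_inv_cancel_right])
    exact (P.3 hsup le_sup_left).le (Subgroup.mem_sup_right (Subgroup.mem_zpowers e))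
  have key : ∀ (k : ℕ) (g : G), g⁻¹ * e ^ k * g ∈ (P : Subgroup G) → g⁻¹ * e ^ k * g = e ^ k :=
    fun k g _ => by
      rw [mul_assoc, ← Subgroup.mem_center_iff.1 (pow_mem hc k) g, inv_mul_cancel_left]
  let ψ : (P : Subgroup G) →* Abelianization (P : Subgroup G) := Abelianization.of
  have h1 : MonoidHom.transfer ψ e = 1 := Abelianization.commutator_subset_ker _ hm
  rw [MonoidHom.transfer_eq_pow _ e key] at h1
  have h2 : e ^ (P : Subgroup G).index = 1 := by
    have h3 := (QuotientGroup.eq_one_iff _).1 h1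
    rw [commutator_eq_closure, Subgroup.closure_eq_bot_iff.2 (by
      rintro x ⟨a, b, rfl⟩
      exact Set.mem_singleton_iff.2 (commutatorElement_eq_one_iff_mul_comm.2
        (Subtype.ext (hP a a.2 b b.2))))] at h3
    exact congrArg Subtype.val (Subgroup.mem_bot.1 h3)
  exact P.not_dvd_index ((dvd_of_eq he.symm).trans (orderOf_dvd_of_pow_eq_one h2))

theorem exists_equiv (h : Hyp G) (T : Sylow 2 G) (hnc : ¬ IsCyclic (T : Subgroup G))
    (hnn : ¬ (T : Subgroup G).Normal) :
    ∃ (F : Type) (_ : Field F) (_ : Fintype F) (A : Type) (_ : CommGroup A) (_ : Finite A),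
      CharP F 2 ∧ Odd (Nat.card A) ∧
        Nonempty (G ≃* Matrix.SpecialLinearGroup (Fin 2) F × A) := by
  classical
  haveI : Fact (Nat.Prime 2) := ⟨Nat.prime_two⟩
  obtain ⟨c, rfl⟩ := exists_cfg h T hnc hnn
  set Z := c.D with hZdef
  have hZc : Z ≤ Subgroup.center G := fun d hd => c.mem_center_of_mem_D hd
  haveI : Z.Normal := ⟨fun x hx g => by
    rwa [Subgroup.mem_center_iff.1 (hZc hx) g, mul_inv_cancel_right]⟩
  have hodd : Odd (Nat.card Z) := c.odd_card_D
  obtain ⟨c', hc'z, hc'T⟩ := c.exists_quotient hodd hZc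
  -- the local hypothesis of the quotient
  have hB : c'.LocalN := by
    intro a ha ha1 x hx
    rcases Cfg.odd_or_involution (a := a) with ho | ⟨k, hk⟩
    · exfalso
      obtain ⟨y, rfl⟩ := QuotientGroup.mk_surjective a
      have hyA : y ∈ c.A := by
        rw [c.mem_A]
        refine commute_of_commute_mk hodd hZc c.hz ?_
        have := c'.mem_A.1 ha
        rwa [hc'z] at this
      refine ha1 ((QuotientGroup.eq_one_iff y).2 (c.mem_D.2 ⟨hyA, ?_⟩))
      have h1 : y ^ orderOf (QuotientGroup.mk y : G ⧸ Z) ∈ Z := by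
        rw [← QuotientGroup.eq_one_iff, QuotientGroup.mk_pow]; exact pow_orderOf_eq_one _
      refine (ho.mul hodd).of_dvd_nat (orderOf_dvd_of_pow_eq_one ?_)
      rw [pow_mul]
      exact congrArg Subtype.val (pow_card_eq_one' (x := (⟨_, h1⟩ : Z)))
    · exact c'.A_le_N (c'.mem_A_of_commute hk (pow_mem ha k) (hx.pow_right k))
  have hsq : ∀ a ∈ c'.A, a * a = 1 := fun a ha => c'.sq_eq_one_of_localN hB ha
  have hH : ∀ t : G ⧸ Z, orderOf t = 2 → IsMulCommutative (Subgroup.centralizer ({t} : Set (G ⧸ Z))) ∧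
      ∀ x ∈ Subgroup.centralizer ({t} : Set (G ⧸ Z)), x ^ 2 = 1 := by
    intro t ht
    refine ⟨c'.hyp t ht, fun x hx => ?_⟩
    obtain ⟨g, hg⟩ := c'.exists_conj_z ht
    have hx' : x ∈ (c'.conj g).A := (c'.conj g).mem_A.2 (hg ▸ Invol.mem_centralizer_singleton_iff'.1 hx)
    have h1 := hsq _ (c'.mem_conj_A.1 hx')
    rw [pow_two]
    calc x * x = g * (g⁻¹ * x * g * (g⁻¹ * x * g)) * g⁻¹ := by group
      _ = 1 := by rw [h1]; group
  obtain ⟨F, iF, iFt, hF, ⟨e⟩⟩ := S1230.result c'.T c'.hnc c'.hnn hH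
  obtain ⟨k, hk⟩ := c'.T.2.exists_card_eq
  change Nat.card (c'.T : Subgroup (G ⧸ Z)) = 2 ^ k at hk
  have hk2 : 2 ≤ k := by
    by_contra hh
    refine c'.hnc ?_
    rcases (show k = 0 ∨ k = 1 by omega) with rfl | rfl
    · rw [pow_zero, Nat.card_eq_one_iff_unique] at hk
      haveI := hk.1
      exact isCyclic_of_subsingleton
    · exact isCyclic_of_prime_card (p := 2) (by rw [hk, pow_one])
  have hcardF : Fintype.card F = 2 ^ k := hF.trans hk
  have h4 : 4 ≤ Fintype.card F := by
    rw [hcardF]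
    exact le_trans (by norm_num) (Nat.pow_le_pow_right two_pos hk2)
  have h2F : (2 : F) = 0 := by
    have h0 : ((Fintype.card F : ℕ) : F) = 0 := FiniteField.cast_card_eq_zero F
    rw [hcardF, Nat.cast_pow] at h0
    exact eq_zero_of_pow_eq_zero (by exact_mod_cast h0)
  haveI hchar : CharP F 2 := CharTwo.of_one_ne_zero_of_two_eq_zero one_ne_zero h2F
  have hmk : Function.Bijective (mk : SL(2, F) →* PSL(2, F)) := by
    refine ⟨(injective_iff_map_eq_one _).mpr fun g hg => ?_, mk_surjective⟩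
    rcases mk_eq_one.mp hg with h | h
    · exact h
    · rw [h, neg_one_eq_one_iff.mpr h2F]
  -- `Z ⊓ G' = 1`
  have hdisj : ∀ x ∈ Z, x ∈ commutator G → x = 1 := by
    intro x hx hxm
    by_contra hx1
    obtain ⟨p, hp, hpd⟩ := Nat.exists_prime_and_dvd (fun h => hx1 (orderOf_eq_one_iff.1 h))
    haveI := Fact.mk hp
    have hp2 : p ≠ 2 := by
      rintro rfl
      exact Nat.not_even_iff_odd.2 (c.mem_D.1 hx).2 (even_iff_two_dvd.2 hpd)
    obtain ⟨P⟩ := (inferInstance : Nonempty (Sylow p G))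
    let f : G →* PSL(2, F) := e.toMonoidHom.comp (QuotientGroup.mk' Z)
    have hf : Function.Surjective f := e.surjective.comp (QuotientGroup.mk'_surjective Z)
    haveI : IsCyclic ((P : Subgroup G).map f) :=
      isCyclic_sylow_odd_psl (F := F) 2 p hp2 hp2 (P.mapSurjective hf)
    have hker : (f.subgroupMap (P : Subgroup G)).ker ≤ Subgroup.center (P : Subgroup G) := by
      intro y hy
      have hyZ : (y : G) ∈ Z := (QuotientGroup.eq_one_iff _).1
        (e.injective ((congrArg Subtype.val hy).trans (map_one e).symm))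
      exact Subgroup.mem_center_iff.2 fun v => Subtype.ext (Subgroup.mem_center_iff.1 (hZc hyZ) v)
    have hab := commutative_of_cyclic_center_quotient (f.subgroupMap (P : Subgroup G)) hker
    refine eq_one_of_central_of_mem_commutator P
      (fun a ha b hb => congrArg Subtype.val (hab ⟨a, ha⟩ ⟨b, hb⟩)) (e := x ^ (orderOf x / p)) ?_
      (pow_mem (hZc hx) _) (pow_mem hxm _)
    exact orderOf_pow_orderOf_div (orderOf_pos x).ne' hpd
  -- `G' Z = G`
  have hsimple := psl_isSimpleGroup (F := F) h4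
  have hperfQ : commutator (G ⧸ Z) = ⊤ := by
    haveI : IsSimpleGroup (G ⧸ Z) := e.isSimpleGroup_congr.2 hsimple
    rcases (inferInstance : (commutator (G ⧸ Z)).Normal).eq_bot_or_eq_top with hb | ht
    · exfalso
      refine c'.hnn ⟨fun x hx g => ?_⟩
      have h1 : g * x * g⁻¹ * x⁻¹ ∈ commutator (G ⧸ Z) := by
        rw [commutator_def]
        exact Subgroup.commutator_mem_commutator (Subgroup.mem_top g) (Subgroup.mem_top x)
      rw [hb, Subgroup.mem_bot] at h1
      rwa [mul_inv_eq_one.1 h1]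
    · exact ht
  have hsurj : ∀ q : G ⧸ Z, ∃ g ∈ commutator G, QuotientGroup.mk g = q := by
    intro q
    have h1 : (commutator G).map (QuotientGroup.mk' Z) = ⊤ := by
      rw [← hperfQ, commutator_def, commutator_def, Subgroup.map_commutator,
        Subgroup.map_top_of_surjective _ (QuotientGroup.mk'_surjective Z)]
    have h2 : q ∈ (commutator G).map (QuotientGroup.mk' Z) := h1 ▸ Subgroup.mem_top q
    exact h2
  let π : commutator G →* G ⧸ Z := (QuotientGroup.mk' Z).comp (commutator G).subtype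
  have hπ : Function.Bijective π := by
    refine ⟨(injective_iff_map_eq_one _).2 fun g hg => Subtype.ext ?_, fun q => ?_⟩
    · exact hdisj g ((QuotientGroup.eq_one_iff (g : G)).1 hg) g.2
    · obtain ⟨g, hg, hq⟩ := hsurj q
      exact ⟨⟨g, hg⟩, hq⟩
  let μ : commutator G × Z →* G :=
    MonoidHom.noncommCoprod (commutator G).subtype Z.subtype
      fun a b => Subgroup.mem_center_iff.1 (hZc b.2) a
  have hμ : Function.Bijective μ := by
    constructor
    · rw [injective_iff_map_eq_one]
      rintro ⟨a, b⟩ hab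
      change (a : G) * (b : G) = 1 at hab
      have ha : (a : G) = 1 := hdisj a (by rw [eq_inv_of_mul_eq_one_left hab]; exact Z.inv_mem b.2) a.2
      rw [ha, one_mul] at hab
      exact Prod.ext (Subtype.ext ha) (Subtype.ext hab)
    · intro g
      obtain ⟨v, hv, hve⟩ := hsurj (QuotientGroup.mk g)
      exact ⟨(⟨v, hv⟩, ⟨v⁻¹ * g, QuotientGroup.eq.1 hve⟩), mul_inv_cancel_left v g⟩
  haveI : IsMulCommutative Z :=
    ⟨⟨fun a b => Subtype.ext (Subgroup.mem_center_iff.1 (hZc b.2) a)⟩⟩
  let iZ : CommGroup Z :=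
    { (inferInstance : Group Z) with
      mul_comm := fun a b => Subtype.ext (Subgroup.mem_center_iff.1 (hZc b.2) a) }
  let ι : {_i : Fin (Nat.card Z) // True} ≃ Z :=
    (Equiv.subtypeUnivEquiv fun _ => trivial).trans (Finite.equivFin Z).symm
  letI iA : CommGroup {_i : Fin (Nat.card Z) // True} := ι.commGroup
  let eZ : {_i : Fin (Nat.card Z) // True} ≃* Z := ι.mulEquiv
  refine ⟨F, iF, iFt, {_i : Fin (Nat.card Z) // True}, iA, inferInstance, hchar, ?_, ⟨?_⟩⟩
  · rw [Nat.card_congr ι]; exact hodd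
  · exact (MulEquiv.ofBijective μ hμ).symm.trans
      (MulEquiv.prodCongr (((MulEquiv.ofBijective π hπ).trans e).trans
        (MulEquiv.ofBijective mk hmk).symm) eZ.symm)

end Cfsg.Agent.PSL2.AbInv
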