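import Cfsg.Agent.Lib.Involution.StrongEmb
import Cfsg.Agent.Lib.Invol.Basic
import Cfsg.Agent.Lib.PGroup.UniqueOrderP

/-!
# Abelian involution centralisers: the centraliser `A` and the strongly embedded `N(A)`

`T` is a Sylow 2-subgroup, neither cyclic nor normal, `z` a central involution of it, `A = C(z)`.
-/

set_option autoImplicit false

namespace Cfsg.Agent.PSL2.AbInv

open Cfsg.Agent.Involution

variable {G : Type*} [Group G]

/-- Every involution centraliser is abelian. -/
def Hyp (G : Type*) [Group G] : Prop :=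
  ∀ t : G, orderOf t = 2 → IsMulCommutative ↥(Subgroup.centralizer ({t} : Set G))

theorem Hyp.comm (h : Hyp G) {t a b : G} (ht : orderOf t = 2) (ha : Commute a t)
    (hb : Commute b t) : Commute a b :=
  congrArg Subtype.val ((h t ht).is_comm.comm ⟨a, Invol.mem_centralizer_singleton_iff'.2 ha⟩
    ⟨b, Invol.mem_centralizer_singleton_iff'.2 hb⟩)

theorem Hyp.subgroup (h : Hyp G) (K : Subgroup G) : Hyp K := fun t ht => ⟨⟨fun a b => by
  have hc : ∀ c : Subgroup.centralizer ({t} : Set K), Commute ((c : K) : G) (t : G) := fun c =>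
    congrArg Subtype.val (Invol.mem_centralizer_singleton_iff'.1 c.2).eq
  exact Subtype.ext (Subtype.ext (h.comm (by rwa [Subgroup.orderOf_coe]) (hc a) (hc b)).eq)⟩⟩

/-- A Sylow 2-subgroup, neither cyclic nor normal, inside the centraliser of an involution. -/
structure Cfg (G : Type*) [Group G] where
  /-- the involution -/
  z : G
  /-- the Sylow 2-subgroup -/
  T : Sylow 2 G
  hyp : Hyp G
  hz : orderOf z = 2
  hTz : ∀ x ∈ (T : Subgroup G), Commute x z
  hnc : ¬ IsCyclic (T : Subgroup G)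
  hnn : ¬ (T : Subgroup G).Normal

theorem exists_cfg [Finite G] (h : Hyp G) (T : Sylow 2 G) (hnc : ¬ IsCyclic (T : Subgroup G))
    (hnn : ¬ (T : Subgroup G).Normal) : ∃ c : Cfg G, c.T = T := by
  haveI : Fact (Nat.Prime 2) := ⟨Nat.prime_two⟩
  haveI : Nontrivial (T : Subgroup G) := by
    by_contra hn
    rw [not_nontrivial_iff_subsingleton] at hn
    exact hnc isCyclic_of_subsingleton
  haveI := T.2.center_nontrivial
  obtain ⟨k, hk⟩ := (IsPGroup.iff_card (p := 2)).mp (T.2.to_subgroup (Subgroup.center (T : Subgroup G)))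
  have hk1 : k ≠ 0 := by
    rintro rfl
    rw [pow_zero] at hk
    have := Finite.one_lt_card (α := Subgroup.center (T : Subgroup G))
    omega
  obtain ⟨t, ht⟩ := exists_prime_orderOf_dvd_card' (G := Subgroup.center (T : Subgroup G)) 2
    (by rw [hk]; exact dvd_pow_self 2 hk1)
  exact ⟨⟨((t : (T : Subgroup G)) : G), T, h,
    by rw [Subgroup.orderOf_coe, Subgroup.orderOf_coe, ht],
    fun a ha => congrArg Subtype.val (Subgroup.mem_center_iff.mp t.2 ⟨a, ha⟩), hnc, hnn⟩, rfl⟩

namespace Cfg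

variable (c : Cfg G)

/-- `A = C(z)`. -/
abbrev A : Subgroup G := Subgroup.centralizer ({c.z} : Set G)

/-- `N = N(A)`. -/
abbrev N : Subgroup G := Subgroup.normalizer (c.A : Set G)

theorem mem_A {x : G} : x ∈ c.A ↔ Commute x c.z := Invol.mem_centralizer_singleton_iff'

theorem z_mem : c.z ∈ c.A := c.mem_A.2 (Commute.refl _)

theorem T_le : (c.T : Subgroup G) ≤ c.A := fun x hx => c.mem_A.2 (c.hTz x hx)

theorem A_comm {a b : G} (ha : a ∈ c.A) (hb : b ∈ c.A) : Commute a b :=
  c.hyp.comm c.hz (c.mem_A.1 ha) (c.mem_A.1 hb)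

theorem A_le_N : c.A ≤ c.N := Subgroup.le_normalizer

theorem z_mem_N : c.z ∈ c.N := c.A_le_N c.z_mem

/-- An involution of `A` has centraliser `A`. -/
theorem cent_eq {t : G} (ht : orderOf t = 2) (htA : t ∈ c.A) :
    Subgroup.centralizer ({t} : Set G) = c.A := by
  ext x
  rw [Invol.mem_centralizer_singleton_iff', c.mem_A]
  exact ⟨fun h => c.hyp.comm ht h (c.mem_A.1 htA).symm,
    fun h => c.A_comm (c.mem_A.2 h) htA⟩

theorem mem_A_of_commute {t x : G} (ht : orderOf t = 2) (htA : t ∈ c.A) (h : Commute x t) :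
    x ∈ c.A := by
  rw [← c.cent_eq ht htA]
  exact Invol.mem_centralizer_singleton_iff'.2 h

/-- The 2-elements of `A` lie in `T`. -/
theorem mem_T {a : G} (ha : a ∈ c.A) {m : ℕ} (hm : orderOf a = 2 ^ m) : a ∈ (c.T : Subgroup G) := by
  haveI : Fact (Nat.Prime 2) := ⟨Nat.prime_two⟩
  have hp : IsPGroup 2 (Subgroup.zpowers a) := IsPGroup.of_card (n := m) (by rw [Nat.card_zpowers, hm])
  have hnorm : Subgroup.zpowers a ≤ Subgroup.normalizer ((c.T : Subgroup G) : Set G) := by
    rw [Subgroup.zpowers_le, Subgroup.mem_normalizer_iff]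
    intro x
    constructor
    · intro hx
      rwa [(c.A_comm ha (c.T_le hx)).eq, mul_inv_cancel_right]
    · intro hx
      have h1 := (c.A_comm ha (c.T_le hx)).eq
      have : x = a * x * a⁻¹ := by
        calc x = a⁻¹ * (a * x * a⁻¹ * a) := by group
          _ = a⁻¹ * (a * (a * x * a⁻¹)) := by rw [← h1]
          _ = a * x * a⁻¹ := by group
      rwa [this]
  have hsup := c.T.2.to_sup_of_normal_left' hp hnorm
  exact (c.T.3 hsup le_sup_left).le (Subgroup.mem_sup_right (Subgroup.mem_zpowers a))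

theorem N_le_normalizer_T : c.N ≤ Subgroup.normalizer ((c.T : Subgroup G) : Set G) := by
  intro g hg
  have key : ∀ g ∈ c.N, ∀ x ∈ (c.T : Subgroup G), g * x * g⁻¹ ∈ (c.T : Subgroup G) := by
    intro g hg x hx
    obtain ⟨m, hm⟩ := IsPGroup.iff_orderOf.mp c.T.2 ⟨x, hx⟩
    rw [← Subgroup.orderOf_coe] at hm
    exact c.mem_T ((Subgroup.mem_normalizer_iff.1 hg x).1 (c.T_le hx)) (m := m)
      (by rw [StrongEmb.orderOf_conj', hm])
  rw [Subgroup.mem_normalizer_iff]
  refine fun x => ⟨key g hg x, fun hx => ?_⟩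
  have := key g⁻¹ (c.N.inv_mem hg) _ hx
  simpa [mul_assoc] using this

/-- The involutions of `N` lie in `A`. -/
theorem involution_mem {t : G} (ht : orderOf t = 2) (htN : t ∈ c.N) : t ∈ c.A := by
  haveI : Fact (Nat.Prime 2) := ⟨Nat.prime_two⟩
  have hp : IsPGroup 2 (Subgroup.zpowers t) := IsPGroup.of_card (n := 1) (by rw [Nat.card_zpowers, ht, pow_one])
  have hsup := c.T.2.to_sup_of_normal_left' hp (by
    rw [Subgroup.zpowers_le]; exact c.N_le_normalizer_T htN)
  exact c.T_le ((c.T.3 hsup le_sup_left).le (Subgroup.mem_sup_right (Subgroup.mem_zpowers t)))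

theorem mem_N_of_conj {t g : G} (ht : orderOf t = 2) (htA : t ∈ c.A) (hg : g * t * g⁻¹ ∈ c.A) :
    g ∈ c.N := by
  have h2 : orderOf (g * t * g⁻¹) = 2 := by rw [StrongEmb.orderOf_conj', ht]
  rw [Subgroup.mem_normalizer_iff]
  intro x
  rw [show (x ∈ c.A) = (x ∈ Subgroup.centralizer ({t} : Set G)) by rw [c.cent_eq ht htA],
    show (g * x * g⁻¹ ∈ c.A) = (g * x * g⁻¹ ∈ Subgroup.centralizer ({g * t * g⁻¹} : Set G)) by
      rw [c.cent_eq h2 hg],
    Invol.mem_centralizer_singleton_iff', Invol.mem_centralizer_singleton_iff']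
  exact (Commute.conj_iff g).symm

theorem normalizer_T_le : Subgroup.normalizer ((c.T : Subgroup G) : Set G) ≤ c.N := fun _ hg =>
  c.mem_N_of_conj c.hz c.z_mem (c.T_le ((Subgroup.mem_normalizer_iff.1 hg _).1
    (c.mem_T c.z_mem (m := 1) (by rw [c.hz]; rfl))))

variable [Finite G]

theorem stronglyEmbedded : Cfsg.IsStronglyEmbedded c.N := by
  refine ⟨fun h => c.hnn (Subgroup.normalizer_eq_top_iff.mp (top_le_iff.1 (h ▸ c.N_le_normalizer_T))),
    even_iff_two_dvd.2 (by
      have h := Subgroup.orderOf_dvd_natCard _ c.z_mem_N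
      rwa [c.hz] at h), fun g hg => ?_⟩
  rw [← Nat.not_even_iff_odd]
  intro he
  obtain ⟨t, ⟨htN, y, hy, hyt⟩, ht⟩ := Invol.exists_involution_mem he
  change g * y * g⁻¹ = t at hyt
  have hy2 : orderOf y = 2 := by rw [← StrongEmb.orderOf_conj' g y, hyt, ht]
  refine hg (c.mem_N_of_conj hy2 (c.involution_mem hy2 hy) ?_)
  rw [hyt]
  exact c.involution_mem ht htN

theorem exists_involution_ne : ∃ t ∈ c.A, orderOf t = 2 ∧ t ≠ c.z := by
  haveI : Fact (Nat.Prime 2) := ⟨Nat.prime_two⟩
  by_contra hno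
  push Not at hno
  refine c.hnc (PGroup.isCyclic_of_unique_of_isMulCommutative c.T.2 ?_
    ⟨⟨fun a b => Subtype.ext (c.A_comm (c.T_le a.2) (c.T_le b.2)).eq⟩⟩)
  have key : ∀ H : Subgroup (c.T : Subgroup G), Nat.card H = 2 →
      H.map (c.T : Subgroup G).subtype = Subgroup.zpowers c.z := by
    intro H hH
    obtain ⟨x, hx⟩ := exists_prime_orderOf_dvd_card' (G := H) 2 (by rw [hH])
    have hx2 : orderOf (((x : (c.T : Subgroup G))) : G) = 2 := by
      rw [Subgroup.orderOf_coe, Subgroup.orderOf_coe, hx]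
    have hxz := hno _ (c.T_le (x : (c.T : Subgroup G)).2) hx2
    refine (Subgroup.eq_of_le_of_card_ge ?_ ?_).symm
    · rw [Subgroup.zpowers_le]
      exact ⟨x, x.2, hxz⟩
    · rw [Subgroup.card_map_of_injective (c.T : Subgroup G).subtype_injective, hH, Nat.card_zpowers,
        c.hz]
  exact fun H K hH hK => Subgroup.map_injective (c.T : Subgroup G).subtype_injective
    ((key H hH).trans (key K hK).symm)

/-- The configuration at a conjugate. -/
def conj (g : G) : Cfg G where
  z := g * c.z * g⁻¹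
  T := g • c.T
  hyp := c.hyp
  hz := by rw [StrongEmb.orderOf_conj', c.hz]
  hTz := by
    rintro x ⟨y, hy, rfl⟩
    exact (Commute.conj_iff g).2 (c.hTz y hy)
  hnc := fun h => c.hnc (by
    exact (MulEquiv.isCyclic (Subgroup.equivSMul (MulAut.conj g) (c.T : Subgroup G))).2 h)
  hnn := fun h => c.hnn (by
    have := Sylow.unique_of_normal (g • c.T) h
    have he : g • c.T = c.T := Subsingleton.elim _ _
    rwa [he] at h)

end Cfg

end Cfsg.Agent.PSL2.AbInv
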