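import Cfsg.Agent.Lib.PSL2.AbelianInvol.Basic

/-!
# Factoring out an odd central subgroup
-/

set_option autoImplicit false

namespace Cfsg.Agent.PSL2.AbInv

open Cfsg.Agent.Involution

variable {G : Type*} [Group G] [Finite G] {Z : Subgroup G} [Z.Normal]

/-- An involution of the quotient by a subgroup of odd order comes from an involution. -/
theorem exists_involution_lift (hodd : Odd (Nat.card Z)) {q : G ⧸ Z} (hq : orderOf q = 2) :
    ∃ t : G, orderOf t = 2 ∧ QuotientGroup.mk t = q := by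
  obtain ⟨x, rfl⟩ := QuotientGroup.mk_surjective q
  have hxx : x * x ∈ Z := by
    rw [← QuotientGroup.eq_one_iff, QuotientGroup.mk_mul]
    exact Invol.mul_self_of_orderOf_two hq
  have hn : Odd (orderOf (x * x)) := hodd.of_dvd_nat (Subgroup.orderOf_dvd_natCard _ hxx)
  obtain ⟨k, hk⟩ := hn
  have hmk : (QuotientGroup.mk (x ^ orderOf (x * x)) : G ⧸ Z) = QuotientGroup.mk x := by
    rw [QuotientGroup.mk_pow, hk, pow_succ, pow_mul, pow_two,
      Invol.mul_self_of_orderOf_two hq, one_pow, one_mul]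
  refine ⟨x ^ orderOf (x * x), Invol.orderOf_two_of_mul_self ?_ ?_, hmk⟩
  · rw [← (Commute.refl x).mul_pow]; exact pow_orderOf_eq_one _
  · intro h
    rw [h] at hmk
    exact Invol.ne_one_of_orderOf_two hq hmk.symm

/-- An element commuting with an involution modulo an odd central subgroup commutes with it. -/
theorem commute_of_commute_mk (hodd : Odd (Nat.card Z)) (hZ : Z ≤ Subgroup.center G) {t a : G}
    (ht : orderOf t = 2) (h : Commute (QuotientGroup.mk a : G ⧸ Z) (QuotientGroup.mk t)) :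
    Commute a t := by
  have htt := Invol.mul_self_of_orderOf_two ht
  have hζ : a * t * a⁻¹ * t⁻¹ ∈ Z := by
    rw [← QuotientGroup.eq_one_iff, QuotientGroup.mk_mul, QuotientGroup.mk_mul, QuotientGroup.mk_mul,
      h.eq, QuotientGroup.mk_inv, QuotientGroup.mk_inv]
    group
  generalize hζe : a * t * a⁻¹ * t⁻¹ = ζ at hζ
  have hζc := Subgroup.mem_center_iff.1 (hZ hζ) t
  have h1 : a * t * a⁻¹ = ζ * t := by rw [← hζe]; group
  have h2 : ζ * ζ = 1 := by
    calc ζ * ζ = ζ * (t * ζ) * t := by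
          rw [hζc, mul_assoc, mul_assoc, htt, mul_one]
      _ = (ζ * t) * (ζ * t) := by group
      _ = (a * t * a⁻¹) * (a * t * a⁻¹) := by rw [h1]
      _ = a * (t * t) * a⁻¹ := by group
      _ = 1 := by rw [htt]; group
  have hζ1 : ζ = 1 := Isolated.eq_one_of_eq_inv (hodd.of_dvd_nat (Subgroup.orderOf_dvd_natCard _ hζ))
    (eq_inv_of_mul_eq_one_left h2)
  rw [hζ1, one_mul] at h1
  show a * t = t * a
  calc a * t = a * t * a⁻¹ * a := by group
    _ = t * a := by rw [h1]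

theorem Hyp.quotient (hG : Hyp G) (hodd : Odd (Nat.card Z)) (hZ : Z ≤ Subgroup.center G) :
    Hyp (G ⧸ Z) := fun q hq => by
  obtain ⟨t, ht, rfl⟩ := exists_involution_lift hodd hq
  refine ⟨⟨fun a b => Subtype.ext ?_⟩⟩
  obtain ⟨x, hx⟩ := QuotientGroup.mk_surjective (a : G ⧸ Z)
  obtain ⟨y, hy⟩ := QuotientGroup.mk_surjective (b : G ⧸ Z)
  have hxt := commute_of_commute_mk hodd hZ ht
    (hx ▸ Invol.mem_centralizer_singleton_iff'.1 a.2)
  have hyt := commute_of_commute_mk hodd hZ ht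
    (hy ▸ Invol.mem_centralizer_singleton_iff'.1 b.2)
  show (a : G ⧸ Z) * (b : G ⧸ Z) = (b : G ⧸ Z) * (a : G ⧸ Z)
  rw [← hx, ← hy, ← QuotientGroup.mk_mul, ← QuotientGroup.mk_mul, (hG.comm ht hxt hyt).eq]

theorem Cfg.exists_quotient (c : Cfg G) (hodd : Odd (Nat.card Z)) (hZ : Z ≤ Subgroup.center G) :
    ∃ c' : Cfg (G ⧸ Z), c'.z = QuotientGroup.mk c.z ∧
      (c'.T : Subgroup (G ⧸ Z)) = (c.T : Subgroup G).map (QuotientGroup.mk' Z) := by
  haveI : Fact (Nat.Prime 2) := ⟨Nat.prime_two⟩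
  set f := QuotientGroup.mk' Z
  have hker : ∀ x ∈ (c.T : Subgroup G), x ∈ Z → x = 1 := by
    intro x hx hxZ
    obtain ⟨m, hm⟩ := IsPGroup.iff_orderOf.mp c.T.2 ⟨x, hx⟩
    rw [← Subgroup.orderOf_coe] at hm
    have hcop : Nat.Coprime (2 ^ m) (Nat.card Z) :=
      (Nat.coprime_two_left.2 hodd).pow_left m
    exact orderOf_eq_one_iff.1 (Nat.eq_one_of_dvd_coprimes hcop (hm ▸ dvd_rfl)
      (Subgroup.orderOf_dvd_natCard _ hxZ))
  have hinj : Function.Injective (f.subgroupMap (c.T : Subgroup G)) := by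
    rw [injective_iff_map_eq_one]
    intro x hx
    exact Subtype.ext (hker x x.2 ((QuotientGroup.eq_one_iff _).1 (congrArg Subtype.val hx)))
  have hz1 : (QuotientGroup.mk c.z : G ⧸ Z) ≠ 1 := fun h => by
    have h1 := hodd.of_dvd_nat (Subgroup.orderOf_dvd_natCard _ ((QuotientGroup.eq_one_iff _).1 h))
    rw [c.hz] at h1
    exact absurd h1 (by decide)
  refine ⟨{
    z := QuotientGroup.mk c.z
    T := c.T.mapSurjective (QuotientGroup.mk'_surjective Z)
    hyp := c.hyp.quotient hodd hZ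
    hz := Invol.orderOf_two_of_mul_self (by
      rw [← QuotientGroup.mk_mul, Invol.mul_self_of_orderOf_two c.hz, QuotientGroup.mk_one]) hz1
    hTz := by
      rintro q ⟨x, hx, rfl⟩
      exact (c.hTz x hx).map f
    hnc := fun h => c.hnc ?_
    hnn := fun h => c.hnn ?_ }, rfl, rfl⟩
  · exact (MulEquiv.isCyclic (MulEquiv.ofBijective _
      ⟨hinj, MonoidHom.subgroupMap_surjective f _⟩)).2 h
  · refine ⟨fun x hx g => ?_⟩
    obtain ⟨y, hy, hye⟩ := h.conj_mem (f x) ⟨x, hx, rfl⟩ (f g)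
    rw [← map_inv, ← map_mul, ← map_mul] at hye
    have hζ : y⁻¹ * (g * x * g⁻¹) ∈ Z := QuotientGroup.eq.1 hye
    generalize hζe : y⁻¹ * (g * x * g⁻¹) = ζ at hζ
    have hgx : g * x * g⁻¹ = y * ζ := by rw [← hζe]; group
    obtain ⟨m, hm⟩ := IsPGroup.iff_orderOf.mp c.T.2 ⟨x, hx⟩
    rw [← Subgroup.orderOf_coe] at hm
    obtain ⟨n, hn⟩ := IsPGroup.iff_orderOf.mp c.T.2 ⟨y, hy⟩
    rw [← Subgroup.orderOf_coe] at hn
    have h1 : ζ ^ (2 ^ (m + n)) = 1 := by
      have h2 : (g * x * g⁻¹) ^ 2 ^ (m + n) = 1 := by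
        rw [conj_pow, pow_add, pow_mul, show x ^ 2 ^ m = 1 by rw [← hm]; exact pow_orderOf_eq_one _,
          one_pow]
        group
      have hc : Commute y ζ := Subgroup.mem_center_iff.1 (hZ hζ) y
      rw [hgx, hc.mul_pow, pow_add, mul_comm (2 ^ m), pow_mul,
        show y ^ 2 ^ n = 1 by rw [← hn]; exact pow_orderOf_eq_one _, one_pow, one_mul] at h2
      rwa [pow_add, mul_comm]
    have hζ1 : ζ = 1 := orderOf_eq_one_iff.1 (Nat.eq_one_of_dvd_coprimes
      ((Nat.coprime_two_left.2 hodd).pow_left (m + n)) (orderOf_dvd_of_pow_eq_one h1)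
      (Subgroup.orderOf_dvd_natCard _ hζ))
    rw [hgx, hζ1, mul_one]
    exact hy

end Cfsg.Agent.PSL2.AbInv
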