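import Cfsg.Agent.Lib.PSL2.AbelianInvol.TI
import Cfsg.Agent.Lib.PSL2.AbelianInvol.Exceptional
import Cfsg.Agent.Lib.PSL2.AbelianInvol.Quotient

/-!
# The odd part of an involution centraliser is central

Induction on the order: a non-central odd element of `A` either has centraliser inside `N`, or its
centraliser `K` is the centraliser of the whole odd part `D`, and `N(D)` would be strongly embedded
with `K` not inside `N`, which is impossible.
-/

set_option autoImplicit false

namespace Cfsg.Agent.PSL2.AbInv.Cfg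

open Cfsg.Agent.Involution

universe v

variable {G : Type v} [Group G] [Finite G] (c : Cfg G)

/-- If all centralisers of `A \ 1` lie in `N`, then `A` is elementary abelian. -/
theorem sq_eq_one_of_localN (hB : c.LocalN) {a : G} (ha : a ∈ c.A) : a * a = 1 := by
  letI := Fintype.ofFinite G
  obtain ⟨u, huN, hu⟩ := StrongEmb.exists_involution_not_mem c.stronglyEmbedded
  obtain ⟨g, hg⟩ := c.exists_conj_z hu
  refine Exc.sq_eq_one (c.isSelfCent hB)
    (fun r hr => StrongEmb.isConj_involutions c.stronglyEmbedded c.hz hr)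
    ⟨g, fun h => huN ?_⟩ ?_ c.hz ha
  · rw [← hg]; exact c.A_le_N h
  · obtain ⟨t, htA, ht, htz⟩ := c.exists_involution_ne
    exact ⟨t, htA, ht, htz⟩

/-- Conjugation between involutions by a product of involutions. -/
theorem mem_of_commute_involutions {d : G} (hd : d ∈ c.A)
    (h : ∀ t : G, orderOf t = 2 → Commute d t) : d ∈ Subgroup.center G := by
  have hH := c.stronglyEmbedded
  have hz := Invol.mul_self_of_orderOf_two c.hz
  -- the middle of two involutions commutes with `d`
  have hmid : ∀ s w : G, orderOf s = 2 → s ∈ c.N → orderOf w = 2 → w ∉ c.N →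
      Commute d (Isolated.middle s w) ∧
        Isolated.middle s w * s * Isolated.middle s w = w ∧
        Isolated.middle s w * Isolated.middle s w = 1 := by
    intro s w hs hsN hw hwN
    have h1 := Isolated.middle_mul_self (Invol.mul_self_of_orderOf_two hs)
      (Invol.mul_self_of_orderOf_two hw)
    refine ⟨?_, Isolated.middle_conj (Invol.mul_self_of_orderOf_two hs)
      (Invol.mul_self_of_orderOf_two hw) (StrongEmb.odd_orderOf_mul hH hsN hs hwN hw), h1⟩
    by_cases hm : Isolated.middle s w = 1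
    · rw [hm]; exact Commute.one_right d
    · exact h _ (Invol.orderOf_two_of_mul_self h1 hm)
  rw [Subgroup.mem_center_iff]
  intro g
  have hw2 : orderOf (g * c.z * g⁻¹) = 2 := by rw [StrongEmb.orderOf_conj', c.hz]
  have key : ∃ v : G, Commute d v ∧ v * c.z * v⁻¹ = g * c.z * g⁻¹ := by
    by_cases hwN : g * c.z * g⁻¹ ∈ c.N
    · obtain ⟨u, huN, hu⟩ := StrongEmb.exists_involution_not_mem hH
      obtain ⟨h1, e1, m1⟩ := hmid _ u c.hz c.z_mem_N hu huN
      obtain ⟨h2, e2, m2⟩ := hmid _ u hw2 hwN hu huN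
      generalize Isolated.middle c.z u = m at h1 e1 m1
      generalize Isolated.middle (g * c.z * g⁻¹) u = m' at h2 e2 m2
      refine ⟨m' * m, h2.mul_right h1, ?_⟩
      have hm : m⁻¹ = m := inv_eq_of_mul_eq_one_right m1
      have hm' : m'⁻¹ = m' := inv_eq_of_mul_eq_one_right m2
      rw [mul_inv_rev, hm, hm']
      calc m' * m * c.z * (m * m') = m' * (m * c.z * m) * m' := by group
        _ = m' * (m' * (g * c.z * g⁻¹) * m') * m' := by rw [e1, e2]
        _ = (m' * m') * (g * c.z * g⁻¹) * (m' * m') := by group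
        _ = g * c.z * g⁻¹ := by rw [m2]; group
    · obtain ⟨h1, e1, m1⟩ := hmid _ _ c.hz c.z_mem_N hw2 hwN
      generalize Isolated.middle c.z (g * c.z * g⁻¹) = m at h1 e1 m1
      exact ⟨m, h1, by rw [inv_eq_of_mul_eq_one_right m1, e1]⟩
  obtain ⟨v, hv, hvz⟩ := key
  have hvg : v⁻¹ * g ∈ c.A := by
    rw [c.mem_A]
    show v⁻¹ * g * c.z = c.z * (v⁻¹ * g)
    calc v⁻¹ * g * c.z = v⁻¹ * (g * c.z * g⁻¹) * g := by group
      _ = v⁻¹ * (v * c.z * v⁻¹) * g := by rw [hvz]
      _ = c.z * (v⁻¹ * g) := by group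
  have : Commute d (v * (v⁻¹ * g)) := hv.mul_right (c.A_comm hd hvg)
  rw [mul_inv_cancel_left] at this
  exact this.eq.symm

/-- The elements of odd order of `A`. -/
def D : Subgroup G where
  carrier := {d | d ∈ c.A ∧ Odd (orderOf d)}
  one_mem' := ⟨c.A.one_mem, by simp⟩
  mul_mem' := fun {a b} ha hb => ⟨c.A.mul_mem ha.1 hb.1,
    (ha.2.mul hb.2).of_dvd_nat ((c.A_comm ha.1 hb.1).orderOf_mul_dvd_mul_orderOf)⟩
  inv_mem' := fun {a} ha => ⟨c.A.inv_mem ha.1, by rw [orderOf_inv]; exact ha.2⟩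

omit [Finite G] in
theorem mem_D {d : G} : d ∈ c.D ↔ d ∈ c.A ∧ Odd (orderOf d) := Iff.rfl

omit [Finite G] in
theorem conj_mem_D {d n : G} (hd : d ∈ c.D) (hn : n ∈ c.N) : n * d * n⁻¹ ∈ c.D :=
  c.mem_D.2 ⟨(Subgroup.mem_normalizer_iff.1 hn d).1 (c.mem_D.1 hd).1,
    by rw [StrongEmb.orderOf_conj']; exact (c.mem_D.1 hd).2⟩

/-- Either an even power of `a` is an involution, or `a` has odd order. -/
theorem odd_or_involution {a : G} : Odd (orderOf a) ∨ ∃ k : ℕ, orderOf (a ^ k) = 2 := by
  rcases Nat.even_or_odd (orderOf a) with he | ho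
  · obtain ⟨k, hk⟩ := he
    refine Or.inr ⟨k, ?_⟩
    have hpos := orderOf_pos a
    rw [orderOf_eq_prime_iff, pow_two, ← pow_add, ← hk, pow_orderOf_eq_one]
    exact ⟨rfl, pow_ne_one_of_lt_orderOf (by omega) (by omega)⟩
  · exact Or.inl ho

/-- The impossible configuration. -/
theorem false_of_centralizer {K : Subgroup G}
    (hK : ∀ d ∈ c.D, d ≠ 1 → ∀ y, y ∈ K ↔ Commute y d) (hD : c.D ≠ ⊥) (hKN : ¬ K ≤ c.N)
    (hnc : ∀ d ∈ c.D, d ≠ 1 → d ∉ Subgroup.center G) : False := by
  classical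
  haveI : Fact (Nat.Prime 2) := ⟨Nat.prime_two⟩
  obtain ⟨d₀, hd₀, hd₀1⟩ := c.D.bot_or_exists_ne_one.resolve_left hD
  have hKD : ∀ y ∈ K, ∀ d ∈ c.D, Commute y d := by
    intro y hy d hd
    by_cases h1 : d = 1
    · rw [h1]; exact Commute.one_right y
    · exact (hK d hd h1 y).1 hy
  have hAK : ∀ a ∈ c.A, a ∈ K := fun a ha =>
    (hK d₀ hd₀ hd₀1 a).2 (c.A_comm ha (c.mem_D.1 hd₀).1)
  set M := Subgroup.normalizer (c.D : Set G) with hM
  have hKM : ∀ y ∈ K, y ∈ M := by
    intro y hy
    rw [hM, Subgroup.mem_normalizer_iff]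
    intro d
    constructor
    · intro hd
      rwa [(hKD y hy d hd).eq, mul_inv_cancel_right]
    · intro hd
      have h1 := (hKD y hy _ hd).eq
      have : d = y * d * y⁻¹ := by
        calc d = y⁻¹ * (y * d * y⁻¹ * y) := by group
          _ = y⁻¹ * (y * (y * d * y⁻¹)) := by rw [← h1]
          _ = y * d * y⁻¹ := by group
      rwa [this]
  have hnorm : ∀ g : G, (∀ d ∈ c.D, g * d * g⁻¹ ∈ c.D) → g ∈ M := by
    intro g hg
    rw [hM, Subgroup.mem_normalizer_iff]
    refine fun x => ⟨hg x, fun hx => ?_⟩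
    have hinj : Function.Injective (fun d : c.D => (⟨g * (d : G) * g⁻¹, hg d d.2⟩ : c.D)) :=
      fun d e h => Subtype.ext (mul_left_cancel (mul_right_cancel (congrArg Subtype.val h)))
    obtain ⟨⟨y, hy⟩, he⟩ := Finite.surjective_of_injective hinj ⟨_, hx⟩
    have he' : g * y * g⁻¹ = g * x * g⁻¹ := congrArg Subtype.val he
    rwa [← mul_left_cancel (mul_right_cancel he')]
  have hNM : ∀ n ∈ c.N, n ∈ M := fun n hn => hnorm n fun d hd => c.conj_mem_D hd hn
  have hMconj : ∀ m ∈ M, ∀ d ∈ c.D, m * d * m⁻¹ ∈ c.D := fun m hm d hd =>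
    (Subgroup.mem_normalizer_iff.1 hm d).1 hd
  have hMtop : M ≠ ⊤ := by
    intro htop
    refine hnc d₀ hd₀ hd₀1 (c.mem_of_commute_involutions (c.mem_D.1 hd₀).1 fun t ht => ?_)
    obtain ⟨g, rfl⟩ := isConj_iff.1 (StrongEmb.isConj_involutions c.stronglyEmbedded c.hz ht)
    have hg : g⁻¹ ∈ M := htop ▸ Subgroup.mem_top _
    have h1 := hMconj _ hg d₀ hd₀
    rw [inv_inv] at h1
    have h2 := c.A_comm c.z_mem (c.mem_D.1 h1).1
    have h3 := (Commute.conj_iff g).2 h2
    simp only [mul_assoc, mul_inv_cancel_left] at h3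
    simpa [mul_assoc] using h3.symm
  -- involutions of `M` lie in `K`
  have hMK : ∀ t ∈ M, orderOf t = 2 → t ∈ K := by
    intro t htM ht
    have hp : IsPGroup 2 (Subgroup.zpowers (⟨t, htM⟩ : M)) :=
      IsPGroup.of_card (n := 1) (by rw [Nat.card_zpowers, ← Subgroup.orderOf_coe]; simpa using ht)
    obtain ⟨Q, hQ⟩ := hp.exists_le_sylow
    obtain ⟨m, hm⟩ := MulAction.exists_smul_eq M Q (c.T.subtype (fun x hx => hNM x (c.A_le_N (c.T_le hx))))
    have h1 : m * (⟨t, htM⟩ : M) * m⁻¹ ∈
        ((c.T.subtype (fun x hx => hNM x (c.A_le_N (c.T_le hx))) : Sylow 2 M) : Subgroup M) := by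
      rw [← hm]
      exact ⟨_, hQ (Subgroup.mem_zpowers _), rfl⟩
    have h2 : (m : G) * t * (m : G)⁻¹ ∈ K := hAK _ (c.T_le h1)
    rw [hK d₀ hd₀ hd₀1]
    have h3 := hKD _ h2 _ (hMconj _ m.2 d₀ hd₀)
    exact (Commute.conj_iff (m : G)).1 h3
  -- the key property of `M`
  have hkey : ∀ g : G, g * c.z * g⁻¹ ∈ M → g ∈ M := by
    intro g hg
    have hgK := hMK _ hg (by rw [StrongEmb.orderOf_conj', c.hz])
    have h : ∀ d ∈ c.D, g⁻¹ * d * g⁻¹⁻¹ ∈ c.D := fun d hd => by
      rw [inv_inv]
      refine c.mem_D.2 ⟨?_, ?_⟩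
      · rw [c.mem_A]
        have h1 := (Commute.conj_iff g⁻¹).2 (hKD _ hgK d hd).symm
        simpa [mul_assoc] using h1
      · have := StrongEmb.orderOf_conj' g⁻¹ d
        rw [inv_inv] at this
        rw [this]; exact (c.mem_D.1 hd).2
    simpa using M.inv_mem (hnorm _ h)
  have hMse : Cfsg.IsStronglyEmbedded M := by
    refine ⟨hMtop, even_iff_two_dvd.2 ?_, fun g hg => ?_⟩
    · have := Subgroup.orderOf_dvd_natCard _ (hNM _ c.z_mem_N)
      rwa [c.hz] at this
    · rw [← Nat.not_even_iff_odd]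
      intro he
      obtain ⟨t, ⟨htM, y, hy, hyt⟩, ht⟩ := Invol.exists_involution_mem he
      change g * y * g⁻¹ = t at hyt
      have hy2 : orderOf y = 2 := by rw [← StrongEmb.orderOf_conj' g y, hyt, ht]
      obtain ⟨h, rfl⟩ := isConj_iff.1 (StrongEmb.isConj_involutions c.stronglyEmbedded c.hz hy2)
      have hhM := hkey h hy
      have hghM : g * h ∈ M := hkey _ (by
        have : g * h * c.z * (g * h)⁻¹ = t := by rw [← hyt]; group
        rwa [this])
      exact hg (by have := M.mul_mem hghM (M.inv_mem hhM); rwa [mul_inv_cancel_right] at this)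
  obtain ⟨u, huM, hu⟩ := StrongEmb.exists_involution_not_mem hMse
  obtain ⟨g, hg⟩ := c.exists_conj_z hu
  change g * c.z * g⁻¹ = u at hg
  -- every `v` of the conjugate centraliser gives a diagonal
  have hdiag : ∀ v : G, orderOf v = 2 → v ∉ M → ∀ x ∈ M, Commute x v →
      ∃ b ∈ c.D, b ∈ swapGroup M v ∧ Commute b (v * b * v) ∧ x = b * (v * b * v) := by
    intro v hv hvM x hx hxv
    refine exists_diag hv hMse hvM c.hz (hNM _ c.z_mem_N)
      (fun y hy => c.mem_A.1 (c.mem_D.1 hy).1) (fun w hw hwz => c.mem_D.2 ⟨c.mem_A.2 hwz,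
        odd_orderOf_of_mem hMse hvM hw⟩) hMconj (fun y hy hy' => ?_) hx hxv
    by_contra hy1
    have hy'1 : v * y * v ≠ 1 := fun e => hy1 (by
      rw [← conj_conj_self hv y, e, mul_one, Invol.mul_self_of_orderOf_two hv])
    have h1 : Commute (v * c.z * v) (v * y * v) := by
      have := (Commute.conj_iff v).2 (c.A_comm c.z_mem (c.mem_D.1 hy).1)
      rwa [Invol.inv_of_orderOf_two hv] at this
    have h2 : v * c.z * v ∈ M := hKM _ ((hK _ hy' hy'1 _).2 h1)
    refine hvM (StrongEmb.mem_of_conj_mem hMse (hNM _ c.z_mem_N) c.hz ?_)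
    rwa [Invol.inv_of_orderOf_two hv]
  -- `C_M(u) = 1`
  have hE : ∀ x ∈ M, Commute x u → x = 1 := by
    intro x hx hxu
    by_contra hx1
    obtain ⟨b, hb, hbW, hbb, hxb⟩ := hdiag u hu huM x hx hxu
    have hxD : g⁻¹ * x * g ∈ c.D := by
      refine c.mem_D.2 ⟨?_, ?_⟩
      · rw [c.mem_A]
        have := (Commute.conj_iff g⁻¹).2 hxu
        rw [← hg] at this
        simpa [mul_assoc] using this
      · have h := StrongEmb.orderOf_conj' g⁻¹ x
        rw [inv_inv] at h
        rw [h]
        exact odd_orderOf_of_mem hMse huM (mem_swapGroup_of_commute hu hx hxu)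
    have hbK : g⁻¹ * b * g ∈ K := by
      rw [hK _ hxD (fun e => hx1 (by
        calc x = g * (g⁻¹ * x * g) * g⁻¹ := by group
          _ = 1 := by rw [e]; group))]
      have h1 : Commute b x := by rw [hxb]; exact (Commute.refl b).mul_right hbb
      simpa using (Commute.conj_iff g⁻¹).2 h1
    have hb1 : b ≠ 1 := fun h => hx1 (by rw [hxb, h]; simp [Invol.mul_self_of_orderOf_two hu])
    have hD'M : ∀ y ∈ c.D, g * y * g⁻¹ ∈ M := by
      intro y hy
      refine hKM _ ((hK b hb hb1 _).2 ?_)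
      have := (Commute.conj_iff g).2 (hKD _ hbK y hy).symm
      simpa [mul_assoc] using this
    -- for a conjugate of an involution of `A`, every element of `D` gives a diagonal in `gDg⁻¹`
    have hall : ∀ t ∈ c.A, orderOf t = 2 → ∀ b ∈ c.D,
        ∃ d ∈ c.D, Commute b ((g * t * g⁻¹) * b * (g * t * g⁻¹)) ∧
          b * ((g * t * g⁻¹) * b * (g * t * g⁻¹)) = g * d * g⁻¹ := by
      intro t htA ht
      set v := g * t * g⁻¹ with hv
      have hv2 : orderOf v = 2 := by rw [hv, StrongEmb.orderOf_conj', ht]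
      have hvM : v ∉ M := by
        intro hvM
        obtain ⟨h, hh⟩ := isConj_iff.1 (StrongEmb.isConj_involutions c.stronglyEmbedded c.hz ht)
        have hhM : h ∈ M := hkey h (hh ▸ hNM _ (c.A_le_N htA))
        have hghM : g * h ∈ M := hkey _ (by
          have : g * h * c.z * (g * h)⁻¹ = v := by rw [hv, ← hh]; group
          rwa [this])
        have hgM : g ∈ M := by
          have := M.mul_mem hghM (M.inv_mem hhM); rwa [mul_inv_cancel_right] at this
        exact huM (hg ▸ M.mul_mem (M.mul_mem hgM (hNM _ c.z_mem_N)) (M.inv_mem hgM))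
      have hdia : ∀ d : c.D, ∃ b : c.D, Commute (b : G) (v * b * v) ∧
          (b : G) * (v * b * v) = g * (d : G) * g⁻¹ := by
        intro d
        obtain ⟨b, hb, -, hc, he⟩ := hdiag v hv2 hvM _ (hD'M d d.2)
          ((Commute.conj_iff g).2 (c.A_comm (c.mem_D.1 d.2).1 htA))
        exact ⟨⟨b, hb⟩, hc, he.symm⟩
      choose f hf hf' using hdia
      have hinj : Function.Injective f := by
        intro d e h
        have := hf' d
        rw [h, hf' e] at this
        exact Subtype.ext (mul_left_cancel (mul_right_cancel this)).symm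
      intro b hb
      obtain ⟨d, hd⟩ := Finite.surjective_of_injective hinj ⟨b, hb⟩
      refine ⟨d, d.2, ?_, ?_⟩
      · have := hf d; rwa [hd] at this
      · have := hf' d; rwa [hd] at this
    obtain ⟨t, htA, ht, htz⟩ := c.exists_involution_ne
    obtain ⟨d₁, hd₁, hc₁, he₁⟩ := hall c.z c.z_mem c.hz b hb
    obtain ⟨d₂, hd₂, hc₂, he₂⟩ := hall t htA ht b hb
    rw [hg] at hc₁ he₁
    set v := g * t * g⁻¹ with hv
    have hv2 : orderOf v = 2 := by rw [hv, StrongEmb.orderOf_conj', ht]
    set ζ := g * (d₁⁻¹ * d₂) * g⁻¹ with hζ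
    have hζD : d₁⁻¹ * d₂ ∈ c.D := c.D.mul_mem (c.D.inv_mem hd₁) hd₂
    have hζA := (c.mem_D.1 hζD).1
    have hζu : Commute ζ u := hg ▸ (Commute.conj_iff g).2 (c.A_comm hζA c.z_mem)
    have hζv : Commute ζ v := (Commute.conj_iff g).2 (c.A_comm hζA htA)
    have hrel : v * b * v = u * b * u * ζ := by
      have e : ζ = (b * (u * b * u))⁻¹ * (b * (v * b * v)) := by rw [hζ, he₁, he₂]; group
      rw [e]; group
    set w := u * v with hw
    have htz' : t * c.z = c.z * t := c.mem_A.1 htA
    have hwconj : w = g * (c.z * t) * g⁻¹ := by rw [hw, ← hg, hv]; group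
    have hzt2 : orderOf (c.z * t) = 2 := by
      refine Invol.orderOf_two_of_mul_self ?_ (fun e => htz ?_)
      · calc c.z * t * (c.z * t) = c.z * (t * c.z) * t := by group
          _ = c.z * (c.z * t) * t := by rw [htz']
          _ = (c.z * c.z) * (t * t) := by group
          _ = 1 := by rw [Invol.mul_self_of_orderOf_two c.hz, Invol.mul_self_of_orderOf_two ht, one_mul]
      · rw [← Invol.inv_of_orderOf_two ht]; exact inv_eq_of_mul_eq_one_left e
    have huu := Invol.mul_self_of_orderOf_two hu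
    have hvv := Invol.mul_self_of_orderOf_two hv2
    have hwb : w * b * w⁻¹ = b * ζ := by
      rw [hw, mul_inv_rev, Invol.inv_of_orderOf_two hu, Invol.inv_of_orderOf_two hv2]
      calc u * v * b * (v * u) = u * (v * b * v) * u := by group
        _ = u * (u * b * u * ζ) * u := by rw [hrel]
        _ = (u * u) * b * (u * (ζ * u)) := by group
        _ = (u * u) * b * ((u * u) * ζ) := by rw [hζu.eq]; group
        _ = b * ζ := by rw [huu, one_mul, one_mul]
    have hw2 : orderOf w = 2 := by rw [hwconj, StrongEmb.orderOf_conj', hzt2]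
    have hζw : Commute w ζ := (hζu.symm.mul_left hζv.symm)
    have hζ1 : ζ = 1 := by
      refine Isolated.eq_one_of_eq_inv ?_ (eq_inv_of_mul_eq_one_left ?_)
      · rw [hζ, StrongEmb.orderOf_conj']; exact (c.mem_D.1 hζD).2
      · have h2 : b * ζ * ζ = b := by
          calc b * ζ * ζ = (w * b * w⁻¹) * (w * ζ * w⁻¹) := by
                rw [hwb, hζw.eq, mul_inv_cancel_right]
            _ = w * (w * b * w⁻¹) * w⁻¹ := by
              conv_rhs => rw [hwb]
              group
            _ = (w * w) * b * (w * w)⁻¹ := by group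
            _ = b := by rw [Invol.mul_self_of_orderOf_two hw2]; group
        rw [mul_assoc] at h2
        exact mul_eq_left.1 h2
    rw [hζ1, mul_one] at hwb
    have hbA : g⁻¹ * b * g ∈ c.A := by
      refine c.mem_A_of_commute hzt2 (c.A.mul_mem c.z_mem htA) ?_
      have h1 : Commute b w := (mul_inv_eq_iff_eq_mul.1 hwb).symm
      rw [hwconj] at h1
      have := (Commute.conj_iff g⁻¹).2 h1
      simpa [mul_assoc] using this
    have hbD : g⁻¹ * b * g ∈ c.D := c.mem_D.2 ⟨hbA, by
      have h := StrongEmb.orderOf_conj' g⁻¹ b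
      rw [inv_inv] at h
      rw [h]; exact (c.mem_D.1 hb).2⟩
    have hub : Commute u b := by
      have := (Commute.conj_iff g).2 (c.A_comm c.z_mem (c.mem_D.1 hbD).1)
      rw [hg] at this
      simpa [mul_assoc] using this
    exact huM (hKM _ ((hK b hb hb1 u).2 hub))
  obtain ⟨-, hcomm⟩ := inverts_of_fixed_trivial hu hMse huM hE
  obtain ⟨t, htA, ht, htz⟩ := c.exists_involution_ne
  obtain ⟨w, hw, hwt⟩ := StrongEmb.exists_mem_inter_conj hMse huM c.hz (hNM _ c.z_mem_N) ht
    (hNM _ (c.A_le_N htA))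
  have hwN : w ∈ c.N := c.mem_N_of_conj c.hz c.z_mem (hwt ▸ htA)
  have hcore : ∀ k ∈ K, k⁻¹ * w * k ∈ c.N := by
    intro k hk
    obtain ⟨v, hv, hvz⟩ := StrongEmb.exists_mem_inter_conj hMse huM c.hz (hNM _ c.z_mem_N)
      (t := k * c.z * k⁻¹) (by rw [StrongEmb.orderOf_conj', c.hz])
      (M.mul_mem (M.mul_mem (hKM k hk) (hNM _ c.z_mem_N)) (M.inv_mem (hKM k hk)))
    have hvk : v⁻¹ * k ∈ c.A := by
      rw [c.mem_A]
      show v⁻¹ * k * c.z = c.z * (v⁻¹ * k)
      calc v⁻¹ * k * c.z = v⁻¹ * (k * c.z * k⁻¹) * k := by group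
        _ = v⁻¹ * (v * c.z * v⁻¹) * k := by rw [hvz]
        _ = c.z * (v⁻¹ * k) := by group
    have : k⁻¹ * w * k = (v⁻¹ * k)⁻¹ * (v⁻¹ * (w * v)) * (v⁻¹ * k) := by group
    rw [this, (hcomm w hw v hv).eq, inv_mul_cancel_left]
    exact c.N.mul_mem (c.N.mul_mem (c.N.inv_mem (c.A_le_N hvk)) hwN) (c.A_le_N hvk)
  refine hKN fun k hk => ?_
  have hz2 := Invol.mul_self_of_orderOf_two c.hz
  have htz' : t * c.z = c.z * t := c.mem_A.1 htA
  have hy2 : orderOf (t * c.z) = 2 := by
    refine Invol.orderOf_two_of_mul_self ?_ (fun e => htz ?_)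
    · calc t * c.z * (t * c.z) = t * (c.z * t) * c.z := by group
        _ = t * (t * c.z) * c.z := by rw [htz']
        _ = (t * t) * (c.z * c.z) := by group
        _ = 1 := by rw [hz2, Invol.mul_self_of_orderOf_two ht, one_mul]
    · rw [← Invol.inv_of_orderOf_two c.hz]; exact eq_inv_of_mul_eq_one_left e
  have hyN : k⁻¹ * (t * c.z) * k ∈ c.N := by
    have : k⁻¹ * (t * c.z) * k =
        k⁻¹ * w * k * (((c.z⁻¹ * k)⁻¹ * w * (c.z⁻¹ * k))⁻¹) := by
      rw [← hwt, Invol.inv_of_orderOf_two c.hz]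
      group
      simp [mul_assoc, Invol.inv_of_orderOf_two c.hz]
    rw [this]
    exact c.N.mul_mem (hcore k hk)
      (c.N.inv_mem (hcore _ (K.mul_mem (K.inv_mem (hAK _ c.z_mem)) hk)))
  have hy2' : orderOf (k⁻¹ * (t * c.z) * k) = 2 := by
    have h := StrongEmb.orderOf_conj' k⁻¹ (t * c.z)
    rw [inv_inv] at h
    rw [h, hy2]
  have hk' : k⁻¹ ∈ c.N := c.mem_N_of_conj hy2 (c.A.mul_mem htA c.z_mem) (by
    rw [inv_inv]; exact c.involution_mem hy2' hyN)
  simpa using c.N.inv_mem hk'

/-- Every element of odd order of `A` is central. -/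
theorem mem_center_of_mem_D : ∀ {G : Type v} [Group G] [Finite G] (c : Cfg G) {d : G},
    d ∈ c.D → d ∈ Subgroup.center G := by
  suffices h : ∀ n : ℕ, ∀ {G : Type v} [Group G] [Finite G] (c : Cfg G), Nat.card G = n →
      ∀ d ∈ c.D, d ∈ Subgroup.center G from fun {G} _ _ c {d} hd => h _ c rfl d hd
  intro n
  induction n using Nat.strong_induction_on with
  | _ n ih =>
    intro G _ _ c hn d hd
    haveI : Fact (Nat.Prime 2) := ⟨Nat.prime_two⟩
    by_cases hd1 : d = 1
    · rw [hd1]; exact Subgroup.one_mem _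
    by_cases hcent : ∃ e ∈ c.A, e ≠ 1 ∧ e ∈ Subgroup.center G
    · obtain ⟨e, heA, he1, heZ⟩ := hcent
      have heodd : Odd (orderOf e) := by
        rcases odd_or_involution (a := e) with h | ⟨k, hk⟩
        · exact h
        · exfalso
          refine c.hnn ?_
          have hA : ∀ x : G, x ∈ c.A := fun x =>
            c.mem_A_of_commute hk (pow_mem heA k) (Subgroup.mem_center_iff.1 (pow_mem heZ k) x)
          refine ⟨fun x hx g => ?_⟩
          rwa [(c.A_comm (hA g) (hA x)).eq, mul_inv_cancel_right]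
      haveI : (Subgroup.zpowers e).Normal := by
        refine ⟨fun x hx g => ?_⟩
        have : x ∈ Subgroup.center G := (Subgroup.zpowers_le.2 heZ) hx
        rwa [Subgroup.mem_center_iff.1 this g, mul_inv_cancel_right]
      have hodd : Odd (Nat.card (Subgroup.zpowers e)) := by rwa [Nat.card_zpowers]
      obtain ⟨c', hc'z, -⟩ := c.exists_quotient hodd (Subgroup.zpowers_le.2 heZ)
      have hlt : Nat.card (G ⧸ Subgroup.zpowers e) < n := by
        rw [← hn, Subgroup.card_eq_card_quotient_mul_card_subgroup (Subgroup.zpowers e)]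
        refine lt_mul_of_one_lt_right Nat.card_pos ?_
        rw [Nat.card_zpowers]
        have := orderOf_pos e
        by_contra h
        exact he1 (orderOf_eq_one_iff.1 (by omega))
      have hmem : (QuotientGroup.mk d : G ⧸ Subgroup.zpowers e) ∈ Subgroup.center _ := by
        refine ih _ hlt c' rfl _ (c'.mem_D.2 ⟨c'.mem_A.2 ?_, ?_⟩)
        · rw [hc'z]
          exact (c.mem_A.1 (c.mem_D.1 hd).1).map (QuotientGroup.mk' _)
        · exact (c.mem_D.1 hd).2.of_dvd_nat (orderOf_map_dvd (QuotientGroup.mk' _) d)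
      refine c.mem_of_commute_involutions (c.mem_D.1 hd).1 fun t ht => ?_
      exact commute_of_commute_mk hodd (Subgroup.zpowers_le.2 heZ) ht
        (Subgroup.mem_center_iff.1 hmem _).symm
    push Not at hcent
    exfalso
    by_cases hB : c.LocalN
    · exact hd1 (Isolated.eq_one_of_eq_inv (c.mem_D.1 hd).2
        (eq_inv_of_mul_eq_one_left (c.sq_eq_one_of_localN hB (c.mem_D.1 hd).1)))
    simp only [LocalN, not_forall] at hB
    obtain ⟨a, haA, ha1, x, hxa, hxN⟩ := hB
    have haodd : Odd (orderOf a) := by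
      rcases odd_or_involution (a := a) with h | ⟨k, hk⟩
      · exact h
      · exact absurd (c.A_le_N (c.mem_A_of_commute hk (pow_mem haA k) (hxa.pow_right k))) hxN
    -- centralisers of elements of `D`
    have hsub : ∀ e ∈ c.D, e ≠ 1 → (∃ y, Commute y e ∧ y ∉ c.N) →
        ∀ y, Commute y e → ∀ d ∈ c.D, Commute y d := by
      intro e he he1 hout y hye d hd
      set K := Subgroup.centralizer ({e} : Set G) with hKdef
      have hTK : (c.T : Subgroup G) ≤ K := fun v hv =>
        Invol.mem_centralizer_singleton_iff'.2 (c.A_comm (c.T_le hv) (c.mem_D.1 he).1)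
      have hzK : c.z ∈ K := Invol.mem_centralizer_singleton_iff'.2 (c.A_comm c.z_mem (c.mem_D.1 he).1)
      have hdK : d ∈ K := Invol.mem_centralizer_singleton_iff'.2
        (c.A_comm (c.mem_D.1 hd).1 (c.mem_D.1 he).1)
      have hTcoe : ((c.T.subtype hTK : Sylow 2 K) : Subgroup K) = (c.T : Subgroup G).subgroupOf K := rfl
      let cK : Cfg K :=
        { z := ⟨c.z, hzK⟩
          T := c.T.subtype hTK
          hyp := c.hyp.subgroup K
          hz := by rw [← Subgroup.orderOf_coe]; exact c.hz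
          hTz := fun v hv => Subtype.ext (c.hTz _ hv).eq
          hnc := fun h => c.hnc
            ((MulEquiv.isCyclic (Subgroup.subgroupOfEquivOfLe hTK)).1 (hTcoe ▸ h))
          hnn := fun h => by
            obtain ⟨w, hwe, hwN⟩ := hout
            refine hwN (c.normalizer_T_le ?_)
            have hwK : w ∈ K := Invol.mem_centralizer_singleton_iff'.2 hwe
            rw [Subgroup.mem_normalizer_iff]
            intro v
            constructor
            · intro hv
              exact h.conj_mem ⟨v, hTK hv⟩ hv ⟨w, hwK⟩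
            · intro hv
              have hvK : v ∈ K := by
                have := K.mul_mem (K.mul_mem (K.inv_mem hwK) (hTK hv)) hwK
                simpa [mul_assoc] using this
              have h1 := h.conj_mem (⟨w, hwK⟩ * ⟨v, hvK⟩ * ⟨w, hwK⟩⁻¹) hv ⟨w, hwK⟩⁻¹
              have h2 : (⟨w, hwK⟩ : K)⁻¹ * (⟨w, hwK⟩ * ⟨v, hvK⟩ * ⟨w, hwK⟩⁻¹) * (⟨w, hwK⟩⁻¹)⁻¹ = ⟨v, hvK⟩ := by
                group
              rw [h2] at h1
              exact h1 }
      have hlt : Nat.card K < n := by
        rw [← hn]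
        refine lt_of_le_of_ne (Subgroup.card_le_card_group K) fun h => hcent e (c.mem_D.1 he).1 he1 ?_
        have hKtop := Subgroup.eq_top_of_card_eq K h
        rw [Subgroup.mem_center_iff]
        intro v
        exact (Invol.mem_centralizer_singleton_iff'.1 (hKtop ▸ Subgroup.mem_top v : v ∈ K)).eq
      have hz : (⟨d, hdK⟩ : K) ∈ cK.D := cK.mem_D.2 ⟨cK.mem_A.2 (Subtype.ext
        (c.mem_A.1 (c.mem_D.1 hd).1).eq), by rw [← Subgroup.orderOf_coe]; exact (c.mem_D.1 hd).2⟩
      have := Subgroup.mem_center_iff.1 (ih _ hlt cK rfl _ hz)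
        ⟨y, Invol.mem_centralizer_singleton_iff'.2 hye⟩
      exact congrArg Subtype.val this
    have haD : a ∈ c.D := c.mem_D.2 ⟨haA, haodd⟩
    have hall := hsub a haD ha1 ⟨x, hxa, hxN⟩
    refine c.false_of_centralizer (K := Subgroup.centralizer ({a} : Set G)) (fun e he he1 y => ?_)
      (fun h => ha1 (Subgroup.mem_bot.1 (h ▸ haD))) (fun h => hxN (h (Invol.mem_centralizer_singleton_iff'.2 hxa)))
      (fun e he he1 => hcent e (c.mem_D.1 he).1 he1)
    rw [Invol.mem_centralizer_singleton_iff']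
    exact ⟨fun hy => hall y hy e he,
      fun hy => hsub e he he1 ⟨x, hall x hxa e he, hxN⟩ y hy a haD⟩

end Cfsg.Agent.PSL2.AbInv.Cfg
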