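import Cfsg.Agent.Lib.Involution.StrongEmb
import Cfsg.Agent.Lib.Invol.Basic
import Mathlib.GroupTheory.FixedPointFree

/-!
# The intersection of a strongly embedded subgroup with a conjugate by an involution

For `H` strongly embedded and an involution `u ∉ H` the group `W = H ∩ uHu` has odd order, the
number of its elements inverted by `u` is the number `I` of involutions of `H`, and so
`|C_W(s)| = |C_W(u)|` for an involution `s` of `H`.
-/

set_option autoImplicit false

namespace Cfsg.Agent.PSL2.AbInv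

open Cfsg.Agent.Involution

variable {G : Type*} [Group G]

/-- `H ∩ uHu⁻¹`. -/
abbrev swapGroup (H : Subgroup G) (u : G) : Subgroup G := H ⊓ H.map (MulAut.conj u).toMonoidHom

variable {H : Subgroup G} {u : G} (hu : orderOf u = 2)
include hu

theorem mem_swapGroup {x : G} : x ∈ swapGroup H u ↔ x ∈ H ∧ u * x * u ∈ H := by
  have huu := Invol.mul_self_of_orderOf_two hu
  have hui := Invol.inv_of_orderOf_two hu
  refine and_congr_right fun _ => ⟨?_, fun h => ⟨u * x * u, h, ?_⟩⟩
  · rintro ⟨y, hy, rfl⟩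
    show u * (u * y * u⁻¹) * u ∈ H
    simpa [hui, mul_assoc, huu, ← mul_assoc u u] using hy
  · show u * (u * x * u) * u⁻¹ = x
    rw [hui]
    calc u * (u * x * u) * u = (u * u) * x * (u * u) := by group
      _ = x := by rw [huu]; group

theorem conj_conj_self (x : G) : u * (u * x * u) * u = x := by
  calc u * (u * x * u) * u = (u * u) * x * (u * u) := by group
    _ = x := by rw [Invol.mul_self_of_orderOf_two hu]; group

theorem conj_mul (x y : G) : u * (x * y) * u = u * x * u * (u * y * u) := by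
  calc u * (x * y) * u = u * x * 1 * y * u := by group
    _ = u * x * (u * u) * y * u := by rw [Invol.mul_self_of_orderOf_two hu]
    _ = u * x * u * (u * y * u) := by group

theorem conj_inv (x : G) : (u * x * u)⁻¹ = u * x⁻¹ * u := by
  simp only [mul_inv_rev, Invol.inv_of_orderOf_two hu, mul_assoc]

theorem conj_mem_swapGroup {x : G} (hx : x ∈ swapGroup H u) : u * x * u ∈ swapGroup H u := by
  rw [mem_swapGroup hu] at hx ⊢
  exact ⟨hx.2, by rw [conj_conj_self hu]; exact hx.1⟩

theorem commute_iff_conj {x : G} : Commute x u ↔ u * x * u = x := by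
  have huu := Invol.mul_self_of_orderOf_two hu
  constructor
  · intro h
    rw [mul_assoc, h.eq, ← mul_assoc, huu, one_mul]
  · intro h
    show x * u = u * x
    calc x * u = u * x * u * u := by rw [h]
      _ = u * x * (u * u) := by group
      _ = u * x := by rw [huu, mul_one]

/-- Elements of `H` centralising `u` lie in `H ∩ uHu`. -/
theorem mem_swapGroup_of_commute {x : G} (hx : x ∈ H) (h : Commute x u) : x ∈ swapGroup H u :=
  (mem_swapGroup hu).2 ⟨hx, by rw [(commute_iff_conj hu).1 h]; exact hx⟩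

variable [Finite G] (hH : Cfsg.IsStronglyEmbedded H) (huH : u ∉ H)
include hH huH

omit hu in
theorem odd_card_swapGroup : Odd (Nat.card (swapGroup H u)) := hH.2.2 u huH

omit hu in
theorem odd_orderOf_of_mem {x : G} (hx : x ∈ swapGroup H u) : Odd (orderOf x) :=
  (odd_card_swapGroup hH huH).of_dvd_nat (Subgroup.orderOf_dvd_natCard _ hx)

/-- The elements of `H ∩ uHu` inverted by `u` are as many as the involutions of `H`. -/
theorem card_inverted :
    Nat.card {w : swapGroup H u // u * (w : G) * u = (w : G)⁻¹} =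
      Nat.card {t : G // orderOf t = 2 ∧ t ∈ H} := by
  have huu := Invol.mul_self_of_orderOf_two hu
  have hui := Invol.inv_of_orderOf_two hu
  have hne : ((1 : G) : G ⧸ H) ≠ (u : G ⧸ H) := fun h => huH (by
    simpa using QuotientGroup.eq.mp h)
  rw [← StrongEmb.card_swap hH _ _ hne]
  have hmem : ∀ i : G, orderOf i = 2 → i • ((1 : G) : G ⧸ H) = (u : G ⧸ H) →
      u * i ∈ swapGroup H u := by
    intro i hi2 hi
    rw [StrongEmb.smul_one_eq_iff, hui] at hi
    refine (mem_swapGroup hu).2 ⟨hi, ?_⟩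
    have h2 := H.inv_mem hi
    rw [mul_inv_rev, Invol.inv_of_orderOf_two hi2, hui] at h2
    rwa [← mul_assoc u u, huu, one_mul]
  refine (Nat.card_eq_of_bijective (fun i : {i : G // orderOf i = 2 ∧
      i • ((1 : G) : G ⧸ H) = (u : G ⧸ H)} =>
      (⟨⟨u * i, hmem i i.2.1 i.2.2⟩, by
        show u * (u * i.1) * u = (u * i.1)⁻¹
        rw [mul_inv_rev, Invol.inv_of_orderOf_two i.2.1, hui, ← mul_assoc u u, huu, one_mul]⟩ :
        {w : swapGroup H u // u * (w : G) * u = (w : G)⁻¹})) ⟨?_, ?_⟩).symm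
  · intro i j h
    have h' : u * i.1 = u * j.1 := congrArg (fun w => ((w : swapGroup H u) : G)) (congrArg Subtype.val h)
    exact Subtype.ext (mul_left_cancel h')
  · rintro ⟨⟨w, hw⟩, hinv⟩
    change u * w * u = w⁻¹ at hinv
    refine ⟨⟨u * w, Invol.orderOf_two_of_mul_self ?_ ?_, ?_⟩, ?_⟩
    · calc u * w * (u * w) = (u * w * u) * w := by group
        _ = 1 := by rw [hinv, inv_mul_cancel]
    · intro h
      refine huH ?_
      have : u = w⁻¹ := eq_inv_of_mul_eq_one_left h
      rw [this]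
      exact H.inv_mem ((mem_swapGroup hu).1 hw).1
    · rw [StrongEmb.smul_one_eq_iff, hui, ← mul_assoc, huu, one_mul]
      exact ((mem_swapGroup hu).1 hw).1
    · refine Subtype.ext (Subtype.ext ?_)
      show u * (u * w) = w
      rw [← mul_assoc, huu, one_mul]

/-- `|W| = I · |C_W(u)|`. -/
theorem card_eq_mul_centralizer_u :
    Nat.card (swapGroup H u) = Nat.card {t : G // orderOf t = 2 ∧ t ∈ H} *
      Nat.card ((Subgroup.centralizer ({u} : Set G)).subgroupOf (swapGroup H u)) := by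
  set W := swapGroup H u
  set C := (Subgroup.centralizer ({u} : Set G)).subgroupOf W
  rw [Subgroup.card_eq_card_quotient_mul_card_subgroup C, ← card_inverted hu hH huH]
  congr 1
  have hui := Invol.inv_of_orderOf_two hu
  have huu := Invol.mul_self_of_orderOf_two hu
  -- `w ↦ w (u w⁻¹ u)`
  let g : W → W := fun w => w * ⟨u * (w : G)⁻¹ * u, conj_mem_swapGroup hu (W.inv_mem w.2)⟩
  have hg : ∀ w : W, u * (g w : G) * u = (g w : G)⁻¹ := fun w => by
    show u * ((w : G) * (u * (w : G)⁻¹ * u)) * u = ((w : G) * (u * (w : G)⁻¹ * u))⁻¹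
    rw [conj_mul hu, conj_conj_self hu, mul_inv_rev, conj_inv hu, inv_inv]
  have key : ∀ a b : W, a⁻¹ * b ∈ C ↔ g a = g b := by
    intro a b
    rw [Subgroup.mem_subgroupOf, Subgroup.mem_centralizer_singleton_iff, Subtype.ext_iff]
    refine (commute_iff_conj hu (x := ((a⁻¹ * b : W) : G))).trans ?_
    show u * ((a : G)⁻¹ * b) * u = (a : G)⁻¹ * b ↔
      (a : G) * (u * (a : G)⁻¹ * u) = (b : G) * (u * (b : G)⁻¹ * u)
    rw [conj_mul hu, ← conj_inv hu, ← conj_inv hu]
    generalize u * (a : G) * u = x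
    generalize u * (b : G) * u = y
    constructor
    · intro h
      calc (a : G) * x⁻¹ = a * (x⁻¹ * y) * y⁻¹ := by group
        _ = a * ((a : G)⁻¹ * b) * y⁻¹ := by rw [h]
        _ = b * y⁻¹ := by group
    · intro h
      calc x⁻¹ * y = (a : G)⁻¹ * ((a : G) * x⁻¹) * y := by group
        _ = (a : G)⁻¹ * ((b : G) * y⁻¹) * y := by rw [h]
        _ = (a : G)⁻¹ * b := by group
  refine Nat.card_eq_of_bijective (Quotient.lift (fun w => (⟨g w, hg w⟩ :
    {w : W // u * (w : G) * u = (w : G)⁻¹})) fun a b h => Subtype.ext ((key a b).1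
      (QuotientGroup.leftRel_apply.1 h))) ⟨?_, ?_⟩
  · intro p q
    induction p using QuotientGroup.induction_on with
    | _ a =>
      induction q using QuotientGroup.induction_on with
      | _ b =>
        intro h
        rw [QuotientGroup.eq]
        exact (key a b).2 (congrArg Subtype.val h)
  · rintro ⟨w, hw⟩
    have ho : Odd (orderOf w) := (odd_card_swapGroup hH huH).of_dvd_nat (orderOf_dvd_natCard w)
    obtain ⟨k, hk⟩ := ho
    refine ⟨QuotientGroup.mk (w ^ (k + 1)), Subtype.ext (Subtype.ext ?_)⟩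
    show ((w ^ (k + 1) : W) : G) * (u * ((w ^ (k + 1) : W) : G)⁻¹ * u) = (w : G)
    have hwk : ∀ n : ℕ, u * ((w : G) ^ n)⁻¹ * u = (w : G) ^ n := by
      intro n
      rw [← inv_pow, ← hw]
      induction n with
      | zero => simp [huu]
      | succ n ih =>
        rw [pow_succ, conj_mul hu, conj_conj_self hu, ih, pow_succ]
    rw [Subgroup.coe_pow, hwk, ← pow_add, show k + 1 + (k + 1) = orderOf w + 1 by omega, pow_succ,
      show (w : G) ^ orderOf w = 1 by rw [← Subgroup.orderOf_coe]; exact pow_orderOf_eq_one _,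
      one_mul]

/-- `|W| = I · |C_W(s)|` for an involution `s` of `H`. -/
theorem card_eq_mul_centralizer {s : G} (hs : orderOf s = 2) (hsH : s ∈ H) :
    Nat.card (swapGroup H u) = Nat.card {t : G // orderOf t = 2 ∧ t ∈ H} *
      Nat.card ((Subgroup.centralizer ({s} : Set G)).subgroupOf (swapGroup H u)) := by
  set W := swapGroup H u
  set C := (Subgroup.centralizer ({s} : Set G)).subgroupOf W
  rw [Subgroup.card_eq_card_quotient_mul_card_subgroup C]
  congr 1
  have hmem : ∀ w : W, orderOf ((w : G) * s * (w : G)⁻¹) = 2 ∧ (w : G) * s * (w : G)⁻¹ ∈ H :=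
    fun w => ⟨by rw [StrongEmb.orderOf_conj', hs],
      H.mul_mem (H.mul_mem w.2.1 hsH) (H.inv_mem w.2.1)⟩
  have key : ∀ a b : W, a⁻¹ * b ∈ C ↔ (a : G) * s * (a : G)⁻¹ = (b : G) * s * (b : G)⁻¹ := by
    intro a b
    rw [Subgroup.mem_subgroupOf, Subgroup.mem_centralizer_singleton_iff]
    show (a : G)⁻¹ * b * s = s * ((a : G)⁻¹ * b) ↔ _
    constructor
    · intro h
      calc (a : G) * s * (a : G)⁻¹ = a * (s * ((a : G)⁻¹ * b)) * (b : G)⁻¹ := by group
        _ = a * ((a : G)⁻¹ * b * s) * (b : G)⁻¹ := by rw [h]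
        _ = _ := by group
    · intro h
      calc (a : G)⁻¹ * b * s = (a : G)⁻¹ * ((b : G) * s * (b : G)⁻¹) * b := by group
        _ = (a : G)⁻¹ * ((a : G) * s * (a : G)⁻¹) * b := by rw [h]
        _ = s * ((a : G)⁻¹ * b) := by group
  refine Nat.card_eq_of_bijective (Quotient.lift (fun w : W => (⟨(w : G) * s * (w : G)⁻¹, hmem w⟩ :
    {t : G // orderOf t = 2 ∧ t ∈ H})) fun a b h => Subtype.ext ((key a b).1
      (QuotientGroup.leftRel_apply.1 h))) ⟨?_, ?_⟩
  · intro p q
    induction p using QuotientGroup.induction_on with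
    | _ a =>
      induction q using QuotientGroup.induction_on with
      | _ b =>
        intro h
        rw [QuotientGroup.eq]
        exact (key a b).2 (congrArg Subtype.val h)
  · rintro ⟨t, ht, htH⟩
    obtain ⟨d, hd, he⟩ := StrongEmb.exists_mem_inter_conj hH huH hs hsH ht htH
    exact ⟨QuotientGroup.mk ⟨d, hd⟩, Subtype.ext he⟩

/-- `|C_W(s)| = |C_W(u)|`. -/
theorem card_centralizer_eq {s : G} (hs : orderOf s = 2) (hsH : s ∈ H) :
    Nat.card ((Subgroup.centralizer ({s} : Set G)).subgroupOf (swapGroup H u)) =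
      Nat.card ((Subgroup.centralizer ({u} : Set G)).subgroupOf (swapGroup H u)) := by
  have h1 := card_eq_mul_centralizer hu hH huH hs hsH
  rw [card_eq_mul_centralizer_u hu hH huH] at h1
  refine (Nat.eq_of_mul_eq_mul_left ?_ h1).symm
  haveI : Nonempty {t : G // orderOf t = 2 ∧ t ∈ H} := ⟨⟨s, hs, hsH⟩⟩
  exact Nat.card_pos

/-- If `u` centralises no element of `W \\ 1`, it inverts `W`, which is then abelian. -/
theorem inverts_of_fixed_trivial (h : ∀ x ∈ H, Commute x u → x = 1) :
    (∀ w ∈ swapGroup H u, u * w * u = w⁻¹) ∧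
      ∀ v ∈ swapGroup H u, ∀ w ∈ swapGroup H u, Commute v w := by
  set W := swapGroup H u
  let φ : W →* W :=
    MonoidHom.mk' (fun w => ⟨u * (w : G) * u, conj_mem_swapGroup hu w.2⟩)
      fun a b => Subtype.ext (conj_mul hu a b)
  have hfpf : MonoidHom.FixedPointFree φ := fun w hw =>
    Subtype.ext (h w w.2.1 ((commute_iff_conj hu).2 (congrArg Subtype.val hw)))
  have hinv : Function.Involutive φ := fun w => Subtype.ext (conj_conj_self hu w)
  refine ⟨fun w hw => ?_, fun v hv w hw => ?_⟩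
  · exact congrArg Subtype.val (congrFun (hfpf.coe_eq_inv_of_involutive hinv) ⟨w, hw⟩)
  · exact congrArg Subtype.val (hfpf.commute_all_of_involutive hinv ⟨v, hv⟩ ⟨w, hw⟩)

/-- The diagonal: if `C_W(s) ⊆ X ⊆ C(s)`, `X` is normalised by `H` and meets `uXu` trivially, every
element of `C_H(u)` is `b (ubu)` with `b ∈ X ∩ W` commuting with `ubu`. -/
theorem exists_diag {X : Subgroup G} {s : G} (hs : orderOf s = 2) (hsH : s ∈ H)
    (hsX : ∀ x ∈ X, Commute x s) (hXW : ∀ w ∈ swapGroup H u, Commute w s → w ∈ X)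
    (hnorm : ∀ h ∈ H, ∀ x ∈ X, h * x * h⁻¹ ∈ X) (hTI : ∀ x ∈ X, u * x * u ∈ X → x = 1)
    {x : G} (hx : x ∈ H) (hxu : Commute x u) :
    ∃ b ∈ X, b ∈ swapGroup H u ∧ Commute b (u * b * u) ∧ x = b * (u * b * u) := by
  set W := swapGroup H u
  set B := (Subgroup.centralizer ({s} : Set G)).subgroupOf W
  set E := (Subgroup.centralizer ({u} : Set G)).subgroupOf W
  have hBX : ∀ b : B, ((b : W) : G) ∈ X := fun b =>
    hXW _ b.1.2 (Invol.mem_centralizer_singleton_iff'.1 b.2)
  have hcomm : ∀ b ∈ X, b ∈ W → Commute b (u * b * u) := by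
    intro b hb hbW
    have hb' : u * b * u ∈ H := (conj_mem_swapGroup hu hbW).1
    generalize hy : u * b * u = y at hb'
    have hby : u * y * u = b := by rw [← hy, conj_conj_self hu]
    have h1 : b * (y * b⁻¹ * y⁻¹) ∈ X := X.mul_mem hb (hnorm y hb' _ (X.inv_mem hb))
    have h2 : u * (b * (y * b⁻¹ * y⁻¹)) * u = (b * (y * b⁻¹ * y⁻¹))⁻¹ := by
      rw [conj_mul hu, conj_mul hu, conj_mul hu, ← conj_inv hu, ← conj_inv hu, hy, hby]
      group
    have h3 := hTI _ h1 (by rw [h2]; exact X.inv_mem h1)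
    show b * y = y * b
    calc b * y = b * (y * b⁻¹ * y⁻¹) * (y * b) := by group
      _ = y * b := by rw [h3, one_mul]
  have hfix : ∀ b : B, u * (((b : W) : G) * (u * ((b : W) : G) * u)) * u =
      ((b : W) : G) * (u * ((b : W) : G) * u) := fun b => by
    rw [conj_mul hu, conj_conj_self hu, (hcomm _ (hBX b) b.1.2).eq]
  let φ : B → E := fun b => ⟨(b : W) * ⟨_, conj_mem_swapGroup hu b.1.2⟩,
    Invol.mem_centralizer_singleton_iff'.2 ((commute_iff_conj hu).2 (hfix b))⟩
  have hinj : Function.Injective φ := by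
    intro b c h
    have h' : ((b : W) : G) * (u * ((b : W) : G) * u) = ((c : W) : G) * (u * ((c : W) : G) * u) :=
      congrArg (fun e : E => ((e : W) : G)) h
    have h1 : u * (((c : W) : G)⁻¹ * ((b : W) : G)) * u ∈ X → ((c : W) : G)⁻¹ * ((b : W) : G) = 1 :=
      hTI _ (X.mul_mem (X.inv_mem (hBX c)) (hBX b))
    refine Subtype.ext (Subtype.ext ?_)
    refine (inv_mul_eq_one.1 (h1 ?_)).symm
    have hp' : u * ((b : W) : G) * u ∈ H := (conj_mem_swapGroup hu b.1.2).1
    have hd : ((c : W) : G)⁻¹ * ((b : W) : G) ∈ X := X.mul_mem (X.inv_mem (hBX c)) (hBX b)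
    rw [conj_mul hu, ← conj_inv hu]
    generalize u * ((b : W) : G) * u = p', u * ((c : W) : G) * u = q' at h' hp' ⊢
    generalize ((b : W) : G) = p, ((c : W) : G) = q at h' hd ⊢
    have h2 := X.inv_mem (hnorm p'⁻¹ (H.inv_mem hp') _ hd)
    have he : q'⁻¹ * p' = (p'⁻¹ * (q⁻¹ * p) * p'⁻¹⁻¹)⁻¹ := by
      have h3 : q⁻¹ * p = q' * p'⁻¹ := by
        calc q⁻¹ * p = q⁻¹ * (p * p') * p'⁻¹ := by group
          _ = q⁻¹ * (q * q') * p'⁻¹ := by rw [h']
          _ = _ := by group
      rw [h3]; group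
    rwa [he]
  have hbij : Function.Bijective φ := hinj.bijective_of_nat_card_le
    (card_centralizer_eq hu hH huH hs hsH).ge
  obtain ⟨b, hb⟩ := hbij.2 ⟨⟨x, mem_swapGroup_of_commute hu hx hxu⟩,
    Invol.mem_centralizer_singleton_iff'.2 hxu⟩
  exact ⟨(b : W), hBX b, b.1.2, hcomm _ (hBX b) b.1.2,
    (congrArg (fun e : E => ((e : W) : G)) hb).symm⟩

end Cfsg.Agent.PSL2.AbInv
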