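import Cfsg.Agent.Lib.PSL2.AbelianInvol.Basic
import Cfsg.Agent.Lib.PSL2.AbelianInvol.Swap
import Cfsg.Agent.Lib.OddOrder.SelfCentralizing

/-!
# Centralisers of `A` inside `N(A)` force `A` to be self-centralising

If `C(a) ≤ N(A)` for all `a ∈ A \ 1`, then for an involution `u ∉ N` the group `C_N(u)` is trivial
and `C(a) = A` for every `a ∈ A \ 1`.
-/

set_option autoImplicit false

namespace Cfsg.Agent.PSL2.AbInv.Cfg

open Cfsg.Agent.Involution

variable {G : Type*} [Group G] [Finite G] (c : Cfg G)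

/-- Centralisers of nontrivial elements of `A` lie in `N`. -/
def LocalN : Prop := ∀ a ∈ c.A, a ≠ 1 → ∀ x : G, Commute x a → x ∈ c.N

theorem mem_conj_A {g x : G} : x ∈ (c.conj g).A ↔ g⁻¹ * x * g ∈ c.A := by
  rw [Cfg.mem_A, Cfg.mem_A]
  show Commute x (g * c.z * g⁻¹) ↔ _
  rw [← Commute.conj_iff g (a := g⁻¹ * x * g)]
  simp [mul_assoc]

theorem mem_conj_N {g x : G} : x ∈ (c.conj g).N ↔ g⁻¹ * x * g ∈ c.N := by
  rw [Subgroup.mem_normalizer_iff, Subgroup.mem_normalizer_iff]
  constructor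
  · intro h a
    have h1 := h (g * a * g⁻¹)
    rw [c.mem_conj_A, c.mem_conj_A] at h1
    simpa [mul_assoc] using h1
  · intro h a
    have h1 := h (g⁻¹ * a * g)
    rw [c.mem_conj_A, c.mem_conj_A]
    simpa [mul_assoc] using h1

variable (hB : c.LocalN)
include hB

theorem localN_conj (g : G) : (c.conj g).LocalN := by
  intro a ha ha1 x hx
  rw [c.mem_conj_N]
  refine hB _ (c.mem_conj_A.1 ha) (fun h => ha1 ?_) _ ?_
  · calc a = g * (g⁻¹ * a * g) * g⁻¹ := by group
      _ = 1 := by rw [h]; group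
  · have := (Commute.conj_iff g⁻¹).2 hx
    simpa using this

/-- `A` is a TI subgroup with normaliser `N`. -/
theorem mem_N_of_conj_mem {a g : G} (ha : a ∈ c.A) (ha1 : a ≠ 1) (hg : g * a * g⁻¹ ∈ c.A) :
    g ∈ c.N := by
  have hga : g * a * g⁻¹ ≠ 1 := fun h => ha1 (conj_eq_one_iff.mp h)
  have h1 : g * c.z * g⁻¹ ∈ c.N := hB _ hg hga _ ((Commute.conj_iff g).2 (c.A_comm c.z_mem ha))
  have h2 : orderOf (g * c.z * g⁻¹) = 2 := by rw [StrongEmb.orderOf_conj', c.hz]
  exact c.mem_N_of_conj c.hz c.z_mem (c.involution_mem h2 h1)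

omit hB in
/-- Every involution is the `z` of some conjugate configuration. -/
theorem exists_conj_z {u : G} (hu : orderOf u = 2) : ∃ g : G, (c.conj g).z = u := by
  obtain ⟨g, hg⟩ := isConj_iff.1 (StrongEmb.isConj_involutions c.stronglyEmbedded c.hz hu)
  exact ⟨g, hg⟩

variable {u : G} (hu : orderOf u = 2) (huN : u ∉ c.N)
include hu huN

theorem conj_TI {x : G} (hx : x ∈ c.A) (hux : u * x * u ∈ c.A) : x = 1 := by
  by_contra hx1
  exact huN (c.mem_N_of_conj_mem hB hx hx1 (by rwa [Invol.inv_of_orderOf_two hu]))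

/-- `C_N(u) = 1`. -/
theorem fixed_trivial {x : G} (hx : x ∈ c.N) (hxu : Commute x u) : x = 1 := by
  by_contra hx1
  obtain ⟨g, hg⟩ := c.exists_conj_z hu
  set c' := c.conj g with hc'
  have huu := Invol.mul_self_of_orderOf_two hu
  have hx' : x ∈ c'.A := c'.mem_A.2 (hg ▸ hxu)
  obtain ⟨b, hb, hbW, hbb, hxb⟩ := exists_diag hu c.stronglyEmbedded huN c.hz c.z_mem_N
    (fun y hy => c.mem_A.1 hy) (fun w _ hw => c.mem_A.2 hw)
    (fun h hh y hy => (Subgroup.mem_normalizer_iff.1 hh y).1 hy)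
    (fun y hy hy' => c.conj_TI hB hu huN hy hy') hx hxu
  have hb1 : b ≠ 1 := fun h => hx1 (by rw [hxb, h]; simp [huu])
  have hbN' : b ∈ c'.N := c.localN_conj hB g x hx' hx1 b (by
    rw [hxb]; exact (Commute.refl b).mul_right hbb)
  have huA' : u ∈ c'.A := hg ▸ c'.z_mem
  -- `b u b⁻¹ u ∈ A'` and `b (u b u) ∈ A'`
  have h1 : b * u * b⁻¹ * u ∈ c'.A :=
    mul_mem ((Subgroup.mem_normalizer_iff.1 hbN' u).1 huA') huA'
  have h2 : b * b ∈ c'.A := by
    have : b * b = x * (b * u * b⁻¹ * u) := by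
      rw [hxb]
      generalize hy : u * b * u = y at hbb
      have hyi : u * b⁻¹ * u = y⁻¹ := by rw [← hy, conj_inv hu]
      calc b * b = b * y * (y⁻¹ * b) := by group
        _ = b * y * (b * y⁻¹) := by rw [(hbb.symm.inv_left).eq]
        _ = b * y * (b * u * b⁻¹ * u) := by rw [← hyi]; group
    rw [this]
    exact mul_mem hx' h1
  have hodd := odd_orderOf_of_mem c.stronglyEmbedded huN hbW
  have hbA' : b ∈ c'.A := by
    obtain ⟨k, hk⟩ := hodd
    have : b = (b * b) ^ (k + 1) := by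
      rw [← pow_two, ← pow_mul, show 2 * (k + 1) = orderOf b + 1 by omega, pow_succ,
        pow_orderOf_eq_one, one_mul]
    rw [this]
    exact pow_mem h2 _
  exact huN (hB b hb hb1 u ((c'.A_comm huA' hbA')))

omit huN hu in
/-- `C(a) = A` for `a ∈ A \ 1`. -/
theorem isSelfCent : OddOrder.IsSelfCent c.A := by
  intro a ha ha1
  ext n
  rw [Invol.mem_centralizer_singleton_iff']
  refine ⟨fun hn => ?_, fun hn => c.A_comm hn ha⟩
  obtain ⟨u, huN, hu⟩ := StrongEmb.exists_involution_not_mem c.stronglyEmbedded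
  have hnN := hB a ha ha1 n hn
  obtain ⟨w, hw, hwz⟩ := StrongEmb.exists_mem_inter_conj c.stronglyEmbedded huN c.hz c.z_mem_N
    (t := n * c.z * n⁻¹) (by rw [StrongEmb.orderOf_conj', c.hz])
    (c.N.mul_mem (c.N.mul_mem hnN c.z_mem_N) (c.N.inv_mem hnN))
  have hwn : w⁻¹ * n ∈ c.A := by
    rw [c.mem_A]
    show w⁻¹ * n * c.z = c.z * (w⁻¹ * n)
    calc w⁻¹ * n * c.z = w⁻¹ * (n * c.z * n⁻¹) * n := by group
      _ = w⁻¹ * (w * c.z * w⁻¹) * n := by rw [hwz]
      _ = c.z * (w⁻¹ * n) := by group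
  have hwa : Commute w a := by
    have h1 : Commute (n * (w⁻¹ * n)⁻¹) a := hn.mul_left (c.A_comm hwn ha).inv_left
    simpa using h1
  -- `w = 1`
  have hw1 : w = 1 := by
    by_contra hw1
    obtain ⟨hinv, -⟩ := inverts_of_fixed_trivial hu c.stronglyEmbedded huN
      fun x hx hxu => c.fixed_trivial hB hu huN hx hxu
    have hwi := hinv w hw
    set K := Subgroup.centralizer ({w} : Set G)
    have hK : ∀ x ∈ K, u * x * u ∈ K := by
      intro x hx
      rw [Invol.mem_centralizer_singleton_iff'] at hx ⊢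
      have h1 := ((Commute.conj_iff u).2 hx)
      rw [Invol.inv_of_orderOf_two hu, hwi] at h1
      simpa using h1.inv_right
    let φ : K →* K := MonoidHom.mk' (fun x => ⟨u * (x : G) * u, hK x x.2⟩)
      fun p q => Subtype.ext (conj_mul hu p q)
    have hfpf : MonoidHom.FixedPointFree φ := by
      rintro ⟨e, he⟩ hfe
      refine Subtype.ext ?_
      show e = 1
      by_contra he1
      obtain ⟨g, hg⟩ := c.exists_conj_z hu
      set c' := c.conj g
      have heu : Commute e u := (commute_iff_conj hu).2 (congrArg Subtype.val hfe)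
      have hwN' : w ∈ c'.N := c.localN_conj hB g e (c'.mem_A.2 (hg ▸ heu)) he1 w
        (Invol.mem_centralizer_singleton_iff'.1 he).symm
      have huA' : u ∈ c'.A := hg ▸ c'.z_mem
      have h1 : w * u * w⁻¹ * u ∈ c'.A :=
        mul_mem ((Subgroup.mem_normalizer_iff.1 hwN' u).1 huA') huA'
      have h2 : w * u * w⁻¹ * u = w * w := by
        have : u * w⁻¹ * u = w := by rw [← conj_inv hu, hwi, inv_inv]
        calc w * u * w⁻¹ * u = w * (u * w⁻¹ * u) := by group
          _ = w * w := by rw [this]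
      rw [h2] at h1
      obtain ⟨k, hk⟩ := odd_orderOf_of_mem c.stronglyEmbedded huN hw
      have hwA' : w ∈ c'.A := by
        have : w = (w * w) ^ (k + 1) := by
          rw [← pow_two, ← pow_mul, show 2 * (k + 1) = orderOf w + 1 by omega, pow_succ,
            pow_orderOf_eq_one, one_mul]
        rw [this]
        exact pow_mem h1 _
      exact hw1 (c.fixed_trivial hB hu huN hw.1 (c'.A_comm hwA' huA'))
    have hinvol : Function.Involutive φ := fun x => Subtype.ext (conj_conj_self hu x)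
    have hua : u * a * u = a⁻¹ := congrArg Subtype.val
      (congrFun (hfpf.coe_eq_inv_of_involutive hinvol)
        ⟨a, Invol.mem_centralizer_singleton_iff'.2 hwa.symm⟩)
    exact ha1 (c.conj_TI hB hu huN ha (hua ▸ c.A.inv_mem ha))
  rw [hw1, inv_one, one_mul] at hwn
  exact hwn

end Cfsg.Agent.PSL2.AbInv.Cfg
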